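import Groth.Agent.AdjLin.K801.EvReduced
import Groth.Agent.AdjLin.K801.StageDesc
import Groth.Agent.AdjLin.K801.Stage
import Groth.Agent.DelIll.K890.Surj
import Groth.Agent.DelIll.K890.Fibres
import Groth.Agent.Flat2D.GenFlatRed4
import Groth.Agent.Fga.UnitRestrict
import Groth.Agent.Fdesc.StructMod
import Groth.Agent.SDiv.K474.FittOmega
import Groth.Agent.Vancyc.H878.OmegaRank
import Groth.Agent.Vancyc.H878.RelOmega

/-!
# Geometric properties of general fibres

`X₀ → Spec S` a model of `X → Spec k`, `S ≤ k` finitely generated.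
* `ev_irr`: the base changes to general separably closed fields are irreducible if `X` is (`k` separably closed);
* `ev_reduced`, `ev_integral`;
* `ev_dim`: dimension;
* `ev_smooth_nhd`: an open set smooth over `k` containing the image of a proper scheme.
* `ev_euler`, `ev_deg`: Euler characteristics and degrees; `ev_deg_omega`.
-/

set_option autoImplicit false
universe u
open CategoryTheory CategoryTheory.Limits AlgebraicGeometry Opposite Topology

namespace K43.EvGeom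

open K890.Spread K890.Model K890.Generic Groth.Agent

variable {k : Type u} [Field k] {S : Subalgebra ℤ k} {X X₀ : Scheme.{u}} {f : X ⟶ Spec (CommRingCat.of k)}
  {f₀ : X₀ ⟶ Spec (CommRingCat.of S)} {p : X ⟶ X₀}

theorem irreducibleComponents_encard_eq_one_iff {Z : Type*} [TopologicalSpace Z] :
    (irreducibleComponents Z).encard = 1 ↔ IrreducibleSpace Z := by
  rw [Set.encard_eq_one]
  constructor
  · rintro ⟨T, hT⟩
    have h1 : T ∈ irreducibleComponents Z := by rw [hT]; rfl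
    have h2 : IsIrreducible T := h1.1
    have h3 : T = Set.univ := by
      ext z
      refine ⟨fun _ => trivial, fun _ => ?_⟩
      have h4 : irreducibleComponent z ∈ irreducibleComponents Z := irreducibleComponent_mem_irreducibleComponents z
      rw [hT] at h4
      rw [← Set.mem_singleton_iff.1 h4]
      exact mem_irreducibleComponent
    rw [h3] at h2
    exact { isPreirreducible_univ := h2.2, toNonempty := ⟨h2.1.some⟩ }
  · intro h
    exact ⟨Set.univ, irreducibleComponents_eq_singleton⟩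

/-- General base changes to separably closed fields of an irreducible scheme are irreducible. -/
theorem ev_irr [LocallyOfFiniteType f₀] [QuasiCompact f₀] (H : IsPullback p f f₀ (sv S)) (hS : S.FG)
    [IsSepClosed k] [IrreducibleSpace X] :
    Ev S (OnField fun κ _ φ => IsSepClosed κ → ∀ (X' : Scheme.{u}) (q : X' ⟶ X₀) (g : X' ⟶ Spec (CommRingCat.of κ)),
      IsPullback q g f₀ (sp φ) → IrreducibleSpace X') := by
  obtain ⟨n, hn⟩ := Flat2D.NGeomConst.exists_eventually_nGeomIrredComp_eq f₀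
  let x : Spec (CommRingCat.of k) := IsLocalRing.closedPoint k
  have h1 : MoreMor.nGeomIrredComp f₀ (genericPoint (Spec (CommRingCat.of S))) = 1 := by
    rw [← sv_apply (S := S) x, ← Flat2D.GeomFib.nGeomIrredComp_eq f₀ (sv S) p f H,
      irreducibleComponents_encard_eq_one_iff]
    infer_instance
  have h3 : n = 1 := by rw [← h1]; exact (hn.self_of_nhds).symm
  subst h3
  refine onField_of_ev (ev_of_nhds hS hn) fun κ _ φ h _ X' q g Hq => ?_
  rw [← irreducibleComponents_encard_eq_one_iff, Flat2D.GeomFib.nGeomIrredComp_eq f₀ (sp φ) q g Hq]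
  exact h _

theorem isReduced_sub_bot_iff {Z : Scheme.{u}} (J : Z.IdealSheafData) (hJ : J = ⊥) :
    IsReduced J.subscheme ↔ IsReduced Z := by
  subst hJ
  have h1 : IsIso (⊥ : Z.IdealSheafData).subschemeι := by
    have h2 : (⊥ : Z.IdealSheafData).subschemeι.ker = ⊥ := Scheme.IdealSheafData.ker_subschemeι _
    have h3 : (𝟙 Z : Z ⟶ Z).ker = ⊥ := Scheme.Hom.ker_eq_bot_of_isIso _
    have h4 := IsClosedImmersion.isIso_lift (⊥ : Z.IdealSheafData).subschemeι (𝟙 Z) (h2.trans h3.symm)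
    have h5 : IsClosedImmersion.lift (⊥ : Z.IdealSheafData).subschemeι (𝟙 Z) (h2.trans h3.symm).le ≫
      (⊥ : Z.IdealSheafData).subschemeι = 𝟙 Z := IsClosedImmersion.lift_fac _ _ _
    exact IsIso.of_isIso_fac_left h5
  exact ⟨fun h => isReduced_of_isOpenImmersion (inv (⊥ : Z.IdealSheafData).subschemeι),
    fun h => isReduced_of_isOpenImmersion (⊥ : Z.IdealSheafData).subschemeι⟩

/-- General base changes to fields of a reduced scheme are reduced. -/
theorem ev_red [LocallyOfFiniteType f₀] [QuasiCompact f₀] (H : IsPullback p f f₀ (sv S)) (hS : S.FG)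
    [PerfectField k] [hr : IsReduced X] :
    Ev S (OnField fun κ _ φ => ∀ (X' : Scheme.{u}) (q : X' ⟶ X₀) (g : X' ⟶ Spec (CommRingCat.of κ)),
      IsPullback q g f₀ (sp φ) → IsReduced X') := by
  have h1 : IsReduced ((⊥ : X₀.IdealSheafData).comap p).subscheme :=
    (isReduced_sub_bot_iff _ (Scheme.IdealSheafData.comap_bot _)).2 hr
  refine (K801.EvReduced.ev_reduced H hS (⊥ : X₀.IdealSheafData)).mono fun T _ φ h κ _ e X' q g Hq => ?_
  exact (isReduced_sub_bot_iff _ (Scheme.IdealSheafData.comap_bot _)).1 (h κ e X' q g Hq)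

/-- Transport of a property of the base changes to fields from a larger ring. -/
theorem onField_of_stage {P : ∀ (κ : Type u) [Field κ] (X' : Scheme.{u}) (_ : X' ⟶ X₀)
      (_ : X' ⟶ Spec (CommRingCat.of κ)), Prop} {S' : Subalgebra ℤ k} (h : S ≤ S')
    (H : Ev S' (OnField fun κ _ φ => ∀ (X' : Scheme.{u}) (q : X' ⟶ pullback f₀ (sp (inc h)))
      (g : X' ⟶ Spec (CommRingCat.of κ)), IsPullback q g (pullback.snd f₀ (sp (inc h))) (sp φ) →
        P κ X' (q ≫ pullback.fst f₀ (sp (inc h))) g)) :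
    Ev S (OnField fun κ _ φ => ∀ (X' : Scheme.{u}) (q : X' ⟶ X₀) (g : X' ⟶ Spec (CommRingCat.of κ)),
      IsPullback q g f₀ (sp φ) → P κ X' q g) := by
  refine Ev.of_le h (H.mono fun T _ φ hφ κ _ e X' q g hq => ?_)
  obtain ⟨q', w, hq'⟩ := exists_fac f₀ h ((e : T →+* κ).comp φ) hq
  rw [← w]
  exact hφ κ e X' q' g hq'

/-- A stage where a morphism of finite type is flat. -/
theorem exists_flat_stage [LocallyOfFiniteType f₀] [QuasiCompact f₀] (hS : S.FG) :
    ∃ (S' : Subalgebra ℤ k) (h : S ≤ S'), S'.FG ∧ Flat (pullback.snd f₀ (sp (inc h))) := by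
  obtain ⟨U, hU, hfl, -⟩ := Flat2D.GenFlatRed.exists_dense_flat_fp f₀
  have hη : genericPoint (Spec (CommRingCat.of S)) ∈ U := by
    obtain ⟨y, hy⟩ := hU.nonempty
    exact (genericPoint_specializes y).mem_open U.2 hy
  obtain ⟨S', h, hfg, ho, hV⟩ := K801.Stage.exists_loc_stage hS (U.2.mem_nhds hη)
  refine ⟨S', h, hfg, ?_⟩
  let t : Spec (CommRingCat.of S') ⟶ U := IsOpenImmersion.lift U.ι (sp (inc h)) (by
    rintro _ ⟨y, rfl⟩
    rw [Scheme.Opens.range_ι]
    exact hV y)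
  have ht : t ≫ U.ι = sp (inc h) := IsOpenImmersion.lift_fac _ _ _
  have h1 : IsPullback (f₀ ⁻¹ᵁ U).ι (f₀ ∣_ U) f₀ U.ι := (isPullback_morphismRestrict f₀ U).flip
  let b : pullback f₀ (sp (inc h)) ⟶ ↑(f₀ ⁻¹ᵁ U) := h1.lift (pullback.fst _ _) (pullback.snd _ _ ≫ t) (by
    rw [Category.assoc, ht, pullback.condition])
  have h2 : IsPullback b (pullback.snd f₀ (sp (inc h))) (f₀ ∣_ U) t := by
    refine IsPullback.of_right ?_ (IsPullback.lift_snd _ _ _ _) h1
    rw [IsPullback.lift_fst, ht]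
    exact IsPullback.of_hasPullback _ _
  exact MorphismProperty.of_isPullback h2 hfl

/-- General base changes to fields of a proper scheme have the same dimension. -/
theorem ev_dim [IsProper f₀] [LocallyOfFinitePresentation f₀] (H : IsPullback p f f₀ (sv S)) (hS : S.FG)
    (n : ℕ) (hn : topologicalKrullDim X = n) :
    Ev S (OnField fun κ _ φ => ∀ (X' : Scheme.{u}) (q : X' ⟶ X₀) (g : X' ⟶ Spec (CommRingCat.of κ)),
      IsPullback q g f₀ (sp φ) → topologicalKrullDim X' = n) := by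
  obtain ⟨S', h, hfg, hfl⟩ := exists_flat_stage (f₀ := f₀) hS
  obtain ⟨p', hp', H'⟩ := exists_up f₀ H h
  exact onField_of_stage h (P := fun κ _ X' _ _ => topologicalKrullDim X' = n) (K890.Fibres.ev_dim H' hfg n hn)

/-- General base changes to separably closed fields of an integral scheme are integral. -/
theorem ev_integral [LocallyOfFiniteType f₀] [QuasiCompact f₀] (H : IsPullback p f f₀ (sv S)) (hS : S.FG)
    [IsSepClosed k] [PerfectField k] [hr : IsIntegral X] :
    Ev S (OnField fun κ _ φ => IsSepClosed κ → ∀ (X' : Scheme.{u}) (q : X' ⟶ X₀) (g : X' ⟶ Spec (CommRingCat.of κ)),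
      IsPullback q g f₀ (sp φ) → IsIntegral X') := by
  refine ((ev_irr H hS).and (ev_red H hS)).mono fun T _ φ h κ _ e _ X' q g Hq => ?_
  have h1 := h.1 κ e ‹_› X' q g Hq
  have h2 := h.2 κ e X' q g Hq
  exact isIntegral_of_irreducibleSpace_of_isReduced X'

/-- An open set smooth over `k` containing the image of a proper scheme. -/
theorem ev_smooth_nhd [LocallyOfFinitePresentation f₀] [QuasiCompact f₀] [QuasiSeparated f₀]
    (H : IsPullback p f f₀ (sv S)) (hS : S.FG)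
    {C C₀ : Scheme.{u}} {c : C ⟶ Spec (CommRingCat.of k)} {c₀ : C₀ ⟶ Spec (CommRingCat.of S)} {pc : C ⟶ C₀}
    [UniversallyClosed c₀] (HC : IsPullback pc c c₀ (sv S)) (m : C ⟶ X) (m₀ : C₀ ⟶ X₀) (hm₀ : m₀ ≫ f₀ = c₀)
    (hmc : m ≫ f = c) (hm : pc ≫ m₀ = m ≫ p) (U : X.Opens) (hU : ∀ z, m z ∈ U) (hs : Smooth (U.ι ≫ f)) :
    Ev S (fun T _ φ => ∀ (X' : Scheme.{u}) (q : X' ⟶ X₀) (g : X' ⟶ Spec (CommRingCat.of T)),
      IsPullback q g f₀ (sp φ) → ∀ (C' : Scheme.{u}) (qc : C' ⟶ C₀) (m' : C' ⟶ X'),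
      IsPullback qc (m' ≫ g) c₀ (sp φ) → m' ≫ q = qc ≫ m₀ →
      ∃ U' : X'.Opens, (∀ z, m' z ∈ U') ∧ Smooth (U'.ι ≫ g)) := by
  have hlf : LocallyOfFiniteType f := MorphismProperty.of_isPullback H inferInstance
  have hn : IsLocallyNoetherian X := by
    have : IsLocallyNoetherian (Spec (CommRingCat.of k)) := inferInstance
    exact LocallyOfFiniteType.isLocallyNoetherian f
  let J : X.IdealSheafData := Scheme.IdealSheafData.vanishingIdeal U.compl
  obtain ⟨S', hle, hfg, p', J', hp', H', hJ'⟩ := K801.StageDesc.exists_ideal H hS J (K890.Ncd.ideal_fg J)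
  have hn' : IsLocallyNoetherian (pullback f₀ (sp (inc hle))) :=
    K890.Ncd.isLocallyNoetherian_of_fg (f₀ := pullback.snd f₀ (sp (inc hle))) hfg
  let U₀ : (pullback f₀ (sp (inc hle))).Opens := J'.support.compl
  have hU₀ : ∀ x, p' x ∈ U₀ ↔ x ∈ U := by
    intro x
    have h1 : (J'.comap p').support = J.support := by rw [hJ']
    rw [Scheme.IdealSheafData.support_comap] at h1
    have h2 : p' x ∈ J'.support ↔ x ∉ U := by
      have h3 := congrArg (fun Z : TopologicalSpace.Closeds X => x ∈ Z) h1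
      exact h3.to_iff
    rw [← not_iff_not, ← h2]
    exact not_not
  obtain ⟨pc', hpc', HC'⟩ := exists_up c₀ HC hle
  let m₀' : pullback c₀ (sp (inc hle)) ⟶ pullback f₀ (sp (inc hle)) :=
    pullback.lift (pullback.fst _ _ ≫ m₀) (pullback.snd _ _) (by rw [Category.assoc, hm₀, pullback.condition])
  have hm1 : m₀' ≫ pullback.fst _ _ = pullback.fst _ _ ≫ m₀ := pullback.lift_fst _ _ _
  have hm2 : m₀' ≫ pullback.snd _ _ = pullback.snd _ _ := pullback.lift_snd _ _ _
  have hm' : pc' ≫ m₀' = m ≫ p' := by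
    apply pullback.hom_ext
    · rw [Category.assoc, hm1, ← Category.assoc, hpc', hm, Category.assoc, hp']
    · rw [Category.assoc, hm2, HC'.w, Category.assoc, H'.w, ← Category.assoc, hmc]
  have e1 := K801.Stage.ev_range HC' hfg (m₀' ⁻¹ᵁ U₀) (by
    intro x
    change (pc' ≫ m₀') x ∈ U₀
    rw [hm', Scheme.Hom.comp_apply, hU₀]
    exact hU x)
  have hUU : p' ⁻¹ᵁ U₀ = U := by
    ext x
    exact hU₀ x
  have H'' : IsPullback (p' ∣_ U₀) ((p' ⁻¹ᵁ U₀).ι ≫ f) (U₀.ι ≫ pullback.snd f₀ (sp (inc hle))) (sv S') :=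
    (isPullback_morphismRestrict p' U₀).paste_vert H'
  have hs' : Smooth ((p' ⁻¹ᵁ U₀).ι ≫ f) := by rw [hUU]; exact hs
  have e2 := ev_smooth H'' hfg
  refine Ev.of_le hle ((e1.and e2).mono fun T _ φ h X' q g Hq C' qc m' Hc hmq => ?_)
  obtain ⟨q', w, hq'⟩ := exists_fac f₀ hle φ Hq
  obtain ⟨qc', wc, hqc'⟩ := exists_fac c₀ hle φ Hc
  refine ⟨q' ⁻¹ᵁ U₀, fun z => ?_, ?_⟩
  · have h3 : m' ≫ q' = qc' ≫ m₀' := by
      apply pullback.hom_ext
      · rw [Category.assoc, w, hmq, Category.assoc, hm1, ← Category.assoc, wc]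
      · rw [Category.assoc, hq'.w, Category.assoc, hm2, hqc'.w, Category.assoc]
    have h4 := h.1 C' qc' (m' ≫ g) hqc' z
    change (qc' ≫ m₀') z ∈ U₀ at h4
    rw [← h3, Scheme.Hom.comp_apply] at h4
    exact h4
  · exact h.2 _ (q' ∣_ U₀) ((q' ⁻¹ᵁ U₀).ι ≫ g) ((isPullback_morphismRestrict q' U₀).paste_vert hq')

section Deg

variable {C C₀ : Scheme.{u}} [C.Over (Spec (CommRingCat.of k))] {c₀ : C₀ ⟶ Spec (CommRingCat.of S)} {pc : C ⟶ C₀}

/-- Euler characteristics at general points. -/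
theorem ev_euler [IsProper c₀] [LocallyOfFinitePresentation c₀]
    (HC : IsPullback pc (C ↘ Spec (CommRingCat.of k)) c₀ (sv S)) (hS : S.FG) {F : C₀.Modules} (hF : Coh.IsCoh F)
    {M : C.Modules} (eM : Nonempty ((Scheme.Modules.pullback pc).obj F ≅ M)) :
    Ev S (OnField fun κ _ φ => ∀ (C' : Scheme.{u}) [C'.Over (Spec (CommRingCat.of κ))] (q : C' ⟶ C₀),
      IsPullback q (C' ↘ Spec (CommRingCat.of κ)) c₀ (sp φ) → ∀ M' : C'.Modules,
      Nonempty ((Scheme.Modules.pullback q).obj F ≅ M') → Curv2.euler κ C' M' = Curv2.euler k C M) := by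
  refine (K890.Surj.ev_finrank_coh HC hS hF).mono fun T _ φ h κ _ e C' _ q hq M' ⟨eM'⟩ => ?_
  obtain ⟨eM⟩ := eM
  rw [← VarietyA.EulerAdd.euler_congr κ eM', ← VarietyA.EulerAdd.euler_congr k eM]
  unfold Curv2.euler
  exact finsum_congr fun i => by rw [h κ e C' q hq i]

/-- Degrees at general points. -/
theorem ev_deg [IsProper c₀] [LocallyOfFinitePresentation c₀]
    (HC : IsPullback pc (C ↘ Spec (CommRingCat.of k)) c₀ (sv S)) (hS : S.FG) {F : C₀.Modules} (hF : Coh.IsCoh F)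
    {M : C.Modules} (eM : Nonempty ((Scheme.Modules.pullback pc).obj F ≅ M)) (n : ℕ) :
    Ev S (OnField fun κ _ φ => ∀ (C' : Scheme.{u}) [C'.Over (Spec (CommRingCat.of κ))] (q : C' ⟶ C₀),
      IsPullback q (C' ↘ Spec (CommRingCat.of κ)) c₀ (sp φ) → ∀ M' : C'.Modules,
      Nonempty ((Scheme.Modules.pullback q).obj F ≅ M') → Curv2.deg κ C' M' n = Curv2.deg k C M n) := by
  have h1 := ev_euler HC hS (Fdesc.StructMod.isCoh_structureModule C₀) ⟨Fga.UnitRestrict.pullbackUnitIso pc⟩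
  refine ((ev_euler HC hS hF eM).and h1).mono fun T _ φ h κ _ e C' _ q hq M' eM' => ?_
  unfold Curv2.deg
  rw [h.1 κ e C' q hq M' eM', h.2 κ e C' q hq _ ⟨Fga.UnitRestrict.pullbackUnitIso q⟩]

/-- The degree of the pull-back of a coherent module on the target. -/
theorem ev_deg_pull [IsProper c₀] [LocallyOfFinitePresentation c₀]
    (HC : IsPullback pc (C ↘ Spec (CommRingCat.of k)) c₀ (sv S)) (hS : S.FG) {m : C ⟶ X} {m₀ : C₀ ⟶ X₀}
    (hm : pc ≫ m₀ = m ≫ p) {E : X₀.Modules} (hE : Coh.IsCoh E) {M : X.Modules}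
    (eM : Nonempty ((Scheme.Modules.pullback p).obj E ≅ M)) (n : ℕ) :
    Ev S (OnField fun κ _ φ => ∀ (X' : Scheme.{u}) (q : X' ⟶ X₀) (M' : X'.Modules),
      Nonempty ((Scheme.Modules.pullback q).obj E ≅ M') →
      ∀ (C' : Scheme.{u}) [C'.Over (Spec (CommRingCat.of κ))] (qc : C' ⟶ C₀),
      IsPullback qc (C' ↘ Spec (CommRingCat.of κ)) c₀ (sp φ) → ∀ m' : C' ⟶ X', m' ≫ q = qc ≫ m₀ →
      Curv2.deg κ C' ((Scheme.Modules.pullback m').obj M') n =
        Curv2.deg k C ((Scheme.Modules.pullback m).obj M) n) := by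
  obtain ⟨eM⟩ := eM
  have e0 : (Scheme.Modules.pullback pc).obj ((Scheme.Modules.pullback m₀).obj E) ≅
      (Scheme.Modules.pullback m).obj M :=
    (Scheme.Modules.pullbackComp pc m₀).app E ≪≫ (Scheme.Modules.pullbackCongr hm).app E ≪≫
      ((Scheme.Modules.pullbackComp m p).app E).symm ≪≫ (Scheme.Modules.pullback m).mapIso eM
  refine (ev_deg HC hS (FormalB.PullCoh.isCoh_pullback m₀ hE) ⟨e0⟩ n).mono
    fun T _ φ h κ _ e X' q M' ⟨eM'⟩ C' _ qc hqc m' hm' => ?_
  exact h κ e C' qc hqc _ ⟨(Scheme.Modules.pullbackComp qc m₀).app E ≪≫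
    (Scheme.Modules.pullbackCongr hm'.symm).app E ≪≫
      ((Scheme.Modules.pullbackComp m' q).app E).symm ≪≫ (Scheme.Modules.pullback m').mapIso eM'⟩

/-- The degree of the pull-back of the differentials. -/
theorem ev_deg_omega [LocallyOfFiniteType f₀] [IsSeparated f₀] (HX : IsPullback p f f₀ (sv S))
    [IsProper c₀] [LocallyOfFinitePresentation c₀]
    (HC : IsPullback pc (C ↘ Spec (CommRingCat.of k)) c₀ (sv S)) (hS : S.FG) {m : C ⟶ X} {m₀ : C₀ ⟶ X₀}
    (hm : pc ≫ m₀ = m ≫ p) (n : ℕ) :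
    Ev S (OnField fun κ _ φ => ∀ (X' : Scheme.{u}) (q : X' ⟶ X₀) (g : X' ⟶ Spec (CommRingCat.of κ)),
      IsPullback q g f₀ (sp φ) →
      ∀ (C' : Scheme.{u}) [C'.Over (Spec (CommRingCat.of κ))] (qc : C' ⟶ C₀),
      IsPullback qc (C' ↘ Spec (CommRingCat.of κ)) c₀ (sp φ) → ∀ m' : C' ⟶ X', m' ≫ q = qc ≫ m₀ →
      Curv2.deg κ C' ((Scheme.Modules.pullback m').obj (Omega.sheaf g)) n =
        Curv2.deg k C ((Scheme.Modules.pullback m).obj (Omega.sheaf f)) n) := by
  have hE : Coh.IsCoh (Omega.sheaf f₀) :=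
    ⟨Vancyc.H878.OmegaRank.isQCoh_omega f₀, SDiv.K474.FittOmega.isFT_omega f₀⟩
  refine (ev_deg_pull HC hS hm hE ⟨Vancyc.H878.RelOmega.omegaBC HX⟩ n).mono
    fun T _ φ h κ _ e X' q g hq C' _ qc hqc m' hm' => ?_
  exact h κ e X' q _ ⟨Vancyc.H878.RelOmega.omegaBC hq⟩ C' qc hqc m' hm'

end Deg

end K43.EvGeom
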