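import Groth.Agent.EssDim.K995.ProjPt
import Groth.Agent.Curves.K329.Pt
import Groth.Agent.Lefpen.H872.RelBase
import Groth.Agent.Lefpen.H720.PtCount

/-!
# Points of projective space over a ring with given homogeneous coordinates

`rpt α b i hi : Spec B ⟶ P^N_A` for `α : A → B`, `b : Fin (N + 1) → B` with `b i` a unit.
* `rpt_comp`, `rpt_pmap`, `rpt_toSpec`: functoriality, base change, structure morphism.
* `rpt_eq_pt`, `rpt_eq_hpt`: comparison with other descriptions.
* `exists_fac_iff`: a rational point factors through `V(G)` iff `G` vanishes on its coordinates.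
-/

set_option autoImplicit false
universe u
open CategoryTheory CategoryTheory.Limits AlgebraicGeometry Opposite Topology

namespace K43.PtBC

open CohB1 K995.ProjPt Groth.Agent.CohqB.ProjBC Groth.Agent.VarietyB.ProjHom
open Groth.Agent.Lefpen.H872 Groth.Agent.Lefpen.H872.RelCI Groth.Agent.Lefpen.H872.RelBase

section Ring

variable {A B : Type u} [CommRing A] [CommRing B] {N : ℕ}

theorem isUnit_ev (α : A →+* B) {b : Fin (N + 1) → B} {i : Fin (N + 1)} (hi : IsUnit (b i)) :
    IsUnit (MvPolynomial.eval₂Hom α b (MvPolynomial.X i)) := by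
  rwa [MvPolynomial.eval₂Hom_X']

/-- The point with coordinates `b`, over the ring homomorphism `α : A → B`. -/
noncomputable def rpt (α : A →+* B) (b : Fin (N + 1) → B) (i : Fin (N + 1)) (hi : IsUnit (b i)) :
    Spec (CommRingCat.of B) ⟶ ProjSpace N A :=
  ppt (MvPolynomial.eval₂Hom α b) (MvPolynomial.X i) (isUnit_ev α hi) (RelCI.X_mem N _ i) Nat.one_pos

theorem rpt_indep (α : A →+* B) (b : Fin (N + 1) → B) {i j : Fin (N + 1)} (hi : IsUnit (b i)) (hj : IsUnit (b j)) :
    rpt α b i hi = rpt α b j hj := ppt_indep _ _ _ _ _ _ _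

theorem rpt_comp {B' : Type u} [CommRing B'] (α : A →+* B) (b : Fin (N + 1) → B) (i : Fin (N + 1))
    (hi : IsUnit (b i)) (ψ : B →+* B') :
    Spec.map (CommRingCat.ofHom ψ) ≫ rpt α b i hi = rpt (ψ.comp α) (fun l => ψ (b l)) i (hi.map ψ) := by
  rw [rpt, SpecMap_ppt]
  refine ppt_congr ?_ _ _ _
  apply MvPolynomial.ringHom_ext
  · intro a
    simp
  · intro l
    simp

theorem rpt_pmap {A' : Type u} [CommRing A'] (φ : A →+* A') (α : A' →+* B) (b : Fin (N + 1) → B) (i : Fin (N + 1))
    (hi : IsUnit (b i)) : rpt α b i hi ≫ pmap φ N = rpt (α.comp φ) b i hi := by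
  have hm : MvPolynomial.map φ (MvPolynomial.X i : MvPolynomial (Fin (N + 1)) A) = MvPolynomial.X i := by simp
  have hu : IsUnit ((MvPolynomial.eval₂Hom α b) (MvPolynomial.map φ (MvPolynomial.X i))) := by
    rw [hm]; exact isUnit_ev α hi
  have h1 := ppt_pmap φ (MvPolynomial.eval₂Hom α b) hu (RelCI.X_mem N _ i) Nat.one_pos (hm.symm ▸ RelCI.X_mem N _ i)
  have h2 : (MvPolynomial.eval₂Hom α b).comp (MvPolynomial.map φ : MvPolynomial (Fin (N + 1)) A →+* _) =
      MvPolynomial.eval₂Hom (α.comp φ) b := by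
    apply MvPolynomial.ringHom_ext
    · intro c
      simp
    · intro c
      simp
  have h3 : rpt (α.comp φ) b i hi = ppt ((MvPolynomial.eval₂Hom α b).comp (MvPolynomial.map φ)) (MvPolynomial.X i)
      hu (RelCI.X_mem N _ i) Nat.one_pos := (ppt_congr h2 hu _ _).symm
  rw [h3, ← h1]
  congr 1
  exact ppt_indep _ _ _ _ _ _ _

@[reassoc]
theorem rpt_toSpec (α : A →+* B) (b : Fin (N + 1) → B) (i : Fin (N + 1)) (hi : IsUnit (b i)) :
    rpt α b i hi ≫ ProjSpace.toSpec N A = Spec.map (CommRingCat.ofHom α) := by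
  have h0 : rpt α b i hi ≫ ProjSpace.toSpec N A = Spec.map (CommRingCat.ofHom
      (awayLift (polyGrading N A) (MvPolynomial.eval₂Hom α b) (MvPolynomial.X i) (isUnit_ev α hi))) ≫
      (Proj.awayι (polyGrading N A) (MvPolynomial.X i) (RelCI.X_mem N _ i) Nat.one_pos ≫
        Proj.toSpecZero (polyGrading N A)) ≫
        Spec.map (CommRingCat.ofHom (algebraMap A (polyGrading N A 0))) := by
    simp only [Category.assoc]
    exact Category.assoc _ _ _
  rw [h0, Proj.awayι_toSpecZero, ← Spec.map_comp, ← Spec.map_comp]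
  congr 1
  refine CommRingCat.hom_ext (RingHom.ext fun r => ?_)
  have h1 := awayLift_mk (polyGrading N A) (MvPolynomial.eval₂Hom α b) (isUnit_ev α hi) (RelCI.X_mem N _ i) 0
    (MvPolynomial.C r) (by
      rw [zero_smul]
      exact (MvPolynomial.mem_homogeneousSubmodule 0 _).2 (MvPolynomial.isHomogeneous_C _ r))
  rw [pow_zero, mul_one, MvPolynomial.eval₂Hom_C] at h1
  refine Eq.trans ?_ h1
  change awayLift (polyGrading N A) (MvPolynomial.eval₂Hom α b) (MvPolynomial.X i) (isUnit_ev α hi)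
    (HomogeneousLocalization.fromZeroRingHom (polyGrading N A) (Submonoid.powers (MvPolynomial.X i))
      (algebraMap A (polyGrading N A 0) r)) = _
  congr 1

end Ring

section Field

variable {k : Type u} [Field k] {N : ℕ}

theorem rpt_eq_pt {B : Type u} [CommRing B] [Algebra k B] (b : Fin (N + 1) → B) (i : Fin (N + 1))
    (hi : IsUnit (b i)) : rpt (algebraMap k B) b i hi = K329.Pt.pt k b i hi := rfl

theorem rpt_eq_hpt (b : Fin (N + 1) → k) (i : Fin (N + 1)) (hi : b i ≠ 0) :
    rpt (RingHom.id k) b i (isUnit_iff_ne_zero.2 hi) = Groth.Agent.Lefpen.H720.HomPt.hpt i b := by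
  rw [hpt_eq_ppt hi]
  rfl

/-- A rational point factors through `V(G)` iff `G` vanishes on its coordinates. -/
theorem exists_fac_iff {m : ℕ} {a : Fin m → ℕ} (G : ∀ j : Fin m, RForm N k (a j)) (v : Fin (N + 1) → k)
    (i : Fin (N + 1)) (hi : IsUnit (v i)) :
    (∃ g : Spec (CommRingCat.of k) ⟶ Y G, g ≫ yι G = rpt (RingHom.id k) v i hi) ↔
      ∀ j, MvPolynomial.eval v (G j).1 = 0 := by
  have hi' : v i ≠ 0 := hi.ne_zero
  have hr : rpt (RingHom.id k) v i hi = Groth.Agent.Lefpen.H720.HomPt.hpt i v := rpt_eq_hpt v i hi'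
  constructor
  · rintro ⟨g, hg⟩ j
    have h1 : (LefPen.hypIdeal (G j)).subschemeι.ker ≤ (g ≫ yι G).ker := by
      rw [Scheme.IdealSheafData.ker_subschemeι]
      have h2 : (yι G).ker ≤ (g ≫ yι G).ker := Scheme.Hom.le_ker_comp _ _
      rw [Scheme.IdealSheafData.ker_subschemeι] at h2
      exact (le_iSup (fun j => rhypIdeal (G j)) j).trans h2
    let g' := IsClosedImmersion.lift (LefPen.hypIdeal (G j)).subschemeι (g ≫ yι G) h1
    have hg' : g' ≫ (LefPen.hypIdeal (G j)).subschemeι = Groth.Agent.Lefpen.H720.HomPt.hpt i v := by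
      rw [IsClosedImmersion.lift_fac, hg, hr]
    have h3 := Groth.Agent.Lefpen.H720.AffPt.dehom_eq_zero (G j) i
      (Groth.Agent.Lefpen.H720.HomPt.aff i v) g' hg'
    exact (Groth.Agent.Lefpen.H720.HomPt.aeval_dehom_eq_zero_iff i v hi' (G j)).mp h3
  · intro h
    have h1 : (yι G).ker ≤ (rpt (RingHom.id k) v i hi).ker := by
      rw [Scheme.IdealSheafData.ker_subschemeι]
      refine iSup_le fun j => ?_
      obtain ⟨x, hx⟩ := Groth.Agent.Lefpen.H720.PtCount.exists_pt (G j) v
        (fun h0 => hi' (by rw [h0]; rfl)) (h j)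
      have h2 := hx i hi'
      rw [hr, ← h2]
      have h3 : ((LefPen.hypIdeal (G j)).subschemeι).ker ≤ (x.1 ≫ (LefPen.hypIdeal (G j)).subschemeι).ker :=
        Scheme.Hom.le_ker_comp _ _
      rw [Scheme.IdealSheafData.ker_subschemeι] at h3
      exact h3
    exact ⟨IsClosedImmersion.lift (yι G) _ h1, IsClosedImmersion.lift_fac _ _ _⟩

end Field

end K43.PtBC
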