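import Groth.Agent.Curves.K43.FamData
import Groth.Agent.Curves.K43.PtBC

/-!
# The morphism and the point over a general ring, in coordinates

`D : Dt S` a model of `X ⊆ P^N` and `C`, `M` a model of `f : C ⟶ X`, `P` a model of `x : Spec k ⟶ C`, `φ : S → T`.
* `Mf.fT : C_T ⟶ V(φ G)`, `Mx.cT : Spec T ⟶ C_T`;
* `cT_fT`: if `f(x)` has coordinates `b` in `S` then the point `cT ≫ fT` has coordinates `φ b`.
-/

set_option autoImplicit false
universe u
open CategoryTheory CategoryTheory.Limits AlgebraicGeometry Opposite Topology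

namespace K43.FibPt

open K890.Spread K890.Model K43.FamData K43.PtBC
open Groth.Agent.Lefpen.H872.RelCI Groth.Agent.Lefpen.H872.RelBase Groth.Agent.CohqB.ProjBC

variable {k : Type u} [Field k] {N : ℕ} {X C : Scheme.{u}} {sX : X ⟶ Spec (CommRingCat.of k)}
  {ι : X ⟶ CohB1.ProjSpace N k} {sC : C ⟶ Spec (CommRingCat.of k)} {S : Subalgebra ℤ k}
  {D : Dt sX ι sC S} {f : C ⟶ X} {x : Spec (CommRingCat.of k) ⟶ C} {T : Type u} [CommRing T]

/-- The morphism over `T`. -/
noncomputable def fT (M : Mf D f) (φ : S →+* T) : pullback D.c₀ (sp φ) ⟶ Y (D.mG φ) :=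
  (D.isPullback_rX φ).lift (pullback.fst _ _ ≫ M.f₀) (pullback.snd _ _) (by
    rw [Category.assoc, M.hf₀, pullback.condition])

@[reassoc]
theorem fT_rX (M : Mf D f) (φ : S →+* T) : fT M φ ≫ D.rX φ = pullback.fst _ _ ≫ M.f₀ := IsPullback.lift_fst _ _ _ _

@[reassoc]
theorem fT_yStr (M : Mf D f) (φ : S →+* T) : fT M φ ≫ yStr (D.mG φ) = pullback.snd _ _ := IsPullback.lift_snd _ _ _ _

/-- The point over `T`. -/
noncomputable def cT (P : Mx D x) (φ : S →+* T) : Spec (CommRingCat.of T) ⟶ pullback D.c₀ (sp φ) :=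
  pullback.lift (sp φ ≫ P.x₀) (𝟙 _) (by rw [Category.assoc, P.hx₀, Category.comp_id, Category.id_comp])

@[reassoc]
theorem cT_fst (P : Mx D x) (φ : S →+* T) : cT P φ ≫ pullback.fst _ _ = sp φ ≫ P.x₀ := pullback.lift_fst _ _ _

@[reassoc]
theorem cT_snd (P : Mx D x) (φ : S →+* T) : cT P φ ≫ pullback.snd _ _ = 𝟙 _ := pullback.lift_snd _ _ _

theorem isDominant_of_injective {A B : Type u} [CommRing A] [CommRing B] (φ : A →+* B) (hφ : Function.Injective φ) :
    IsDominant (Spec.map (CommRingCat.ofHom φ)) := by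
  apply isDominant_of_of_appTop_injective
  have h1 := Scheme.ΓSpecIso_naturality (CommRingCat.ofHom φ)
  have h2 : (Spec.map (CommRingCat.ofHom φ)).appTop =
    (Scheme.ΓSpecIso _).hom ≫ CommRingCat.ofHom φ ≫ (Scheme.ΓSpecIso _).inv := by
    rw [← Category.assoc, ← h1, Category.assoc, Iso.hom_inv_id, Category.comp_id]
  rw [h2]
  have e1 := ((ConcreteCategory.isIso_iff_bijective (Scheme.ΓSpecIso (CommRingCat.of A)).hom).1 inferInstance).1
  have e2 := ((ConcreteCategory.isIso_iff_bijective (Scheme.ΓSpecIso (CommRingCat.of B)).inv).1 inferInstance).1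
  intro x y hxy
  simp only [CommRingCat.comp_apply] at hxy
  exact e1 (hφ (e2 hxy))

/-- The point over `S`, in coordinates. -/
theorem x₀_f₀ (M : Mf D f) (P : Mx D x) (b : Fin (N + 1) → S)
    (i : Fin (N + 1)) (hi : IsUnit (b i))
    (hb : x ≫ f ≫ ι = rpt (RingHom.id k) (fun l => S.val.toRingHom (b l)) i (hi.map _)) :
    P.x₀ ≫ M.f₀ ≫ yι D.G = rpt (RingHom.id S) b i hi := by
  have hs : IsProper (CohB1.ProjSpace.toSpec N S) := Groth.Agent.Ega3B.ProjProper.isProper_toSpec N S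
  have hs' : IsSeparated (CohB1.ProjSpace.toSpec N S) := inferInstance
  have hd : IsDominant (sv S) := isDominant_of_injective _ Subtype.val_injective
  have hr : IsReduced (Spec (CommRingCat.of S)) := inferInstance
  refine ext_of_isDominant_of_isSeparated (CohB1.ProjSpace.toSpec N S) ?_ (sv S) ?_
  · have h1 : M.f₀ ≫ yι D.G ≫ CohB1.ProjSpace.toSpec N S = D.c₀ := M.hf₀
    rw [Category.assoc, Category.assoc, h1, P.hx₀, rpt_toSpec]
    exact (Spec.map_id _).symm
  · rw [← Category.assoc, P.hpx, Category.assoc, ← Category.assoc D.pC, M.hpf, Category.assoc, D.hι, rpt_comp]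
    have h1 : x ≫ f ≫ ι ≫ pmap S.val.toRingHom N = (x ≫ f ≫ ι) ≫ pmap S.val.toRingHom N := by
      simp only [Category.assoc]
    rw [h1, hb, rpt_pmap]
    rfl

/-- The point over `T`, in coordinates. -/
theorem cT_fT (M : Mf D f) (P : Mx D x) (b : Fin (N + 1) → S)
    (i : Fin (N + 1)) (hi : IsUnit (b i))
    (hb : x ≫ f ≫ ι = rpt (RingHom.id k) (fun l => S.val.toRingHom (b l)) i (hi.map _)) (φ : S →+* T) :
    cT P φ ≫ fT M φ ≫ yι (D.mG φ) = rpt (RingHom.id T) (fun l => φ (b l)) i (hi.map φ) := by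
  apply (isPullback_pmap φ N).hom_ext
  · have h1 : D.rX φ ≫ yι D.G = yι (D.mG φ) ≫ pmap φ N := rMap_subschemeι _ _ _ _
    rw [Category.assoc, Category.assoc, ← h1, fT_rX_assoc, cT_fst_assoc, x₀_f₀ M P b i hi hb, rpt_comp, rpt_pmap]
    rfl
  · have h1 : yι (D.mG φ) ≫ CohB1.ProjSpace.toSpec N T = yStr (D.mG φ) := rfl
    rw [Category.assoc, Category.assoc, h1, fT_yStr, cT_snd, rpt_toSpec]
    exact (Spec.map_id _).symm

end K43.FibPt
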