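import Groth.Agent.Curves.K43.EvGeom
import Groth.Agent.Curves.K43.FibPt
import Groth.Agent.Ega3B.ProjFrame
import Groth.Agent.CycB.DegCurve

/-!
# The data over general fields

`Good M n κ φ`: the base change of `f : C ⟶ X ⊆ P^N` to `κ` has all the properties and numbers of `f`.
`ev_good`: this holds over general separably closed `κ`.
-/

set_option autoImplicit false
universe u
open CategoryTheory CategoryTheory.Limits AlgebraicGeometry Opposite Topology

namespace K43.EvGood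

open K890.Spread K890.Model K890.Generic K43.FamData K43.FibPt K43.EvGeom Groth.Agent
open Groth.Agent.Lefpen.H872.RelCI Groth.Agent.Lefpen.H872.RelBase Groth.Agent.CohqB.ProjBC

variable {k : Type u} [Field k] {N : ℕ} {X C : Scheme.{u}} {sX : X ⟶ Spec (CommRingCat.of k)}
  {ι : X ⟶ CohB1.ProjSpace N k} [C.Over (Spec (CommRingCat.of k))] {S : Subalgebra ℤ k}
  {D : Dt sX ι (C ↘ Spec (CommRingCat.of k)) S} {f : C ⟶ X}

/-- The fibres are as the original. -/
structure Good (M : Mf D f) (n : ℕ) (κ : Type u) [Field κ] (φ : S →+* κ) : Prop where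
  intX : IsIntegral (Y (D.mG φ))
  dimX : topologicalKrullDim (Y (D.mG φ)) = n
  intC : IsIntegral (pullback D.c₀ (sp φ))
  dimC : topologicalKrullDim (pullback D.c₀ (sp φ) : Scheme.{u}) = 1
  smooth : ∃ U' : (Y (D.mG φ)).Opens, (∀ z, fT M φ z ∈ U') ∧ Smooth (U'.ι ≫ yStr (D.mG φ))
  omega : @Curv2.deg κ _ (pullback D.c₀ (sp φ)) ⟨pullback.snd D.c₀ (sp φ)⟩
      ((Scheme.Modules.pullback (fT M φ)).obj (Omega.sheaf (yStr (D.mG φ)))) n =
    Curv2.deg k C ((Scheme.Modules.pullback f).obj (Omega.sheaf sX)) n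
  deg : @Curv2.deg κ _ (pullback D.c₀ (sp φ)) ⟨pullback.snd D.c₀ (sp φ)⟩
      ((Scheme.Modules.pullback (fT M φ ≫ yι (D.mG φ))).obj (Twist.twistProjSpace N κ 1)) 1 =
    Curv2.deg k C ((Scheme.Modules.pullback (f ≫ ι)).obj (Twist.twistProjSpace N k 1)) 1

theorem deg_congr {k : Type u} [Field k] {X : Scheme.{u}} [X.Over (Spec (CommRingCat.of k))] {M M' : X.Modules}
    (e : M ≅ M') (n : ℕ) : Curv2.deg k X M n = Curv2.deg k X M' n := by
  unfold Curv2.deg
  rw [VarietyA.EulerAdd.euler_congr k e]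

theorem ev_good [IsSepClosed k] [PerfectField k] [hX : IsIntegral X] [hC : IsIntegral C] (M : Mf D f) (hS : S.FG)
    (hf : f ≫ sX = C ↘ Spec (CommRingCat.of k)) (n : ℕ)
    (hn : topologicalKrullDim X = n) (hCd : topologicalKrullDim C = 1) (U : X.Opens) (hU : ∀ z, f z ∈ U)
    (hs : Smooth (U.ι ≫ sX)) : Ev S (OnField fun κ _ φ => IsSepClosed κ → Good M n κ φ) := by
  have hlfp : LocallyOfFinitePresentation (yStr D.G) := lfp_yStr hS D.G
  have hE : Coh.IsCoh ((Scheme.Modules.pullback (yι D.G)).obj (Twist.twistProjSpace N S 1)) :=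
    FormalB.PullCoh.isCoh_pullback _
      (CycB.DegCurve.isCoh_of_isInvertible (Ega3B.ProjFrame.isInvertible_twistProjSpace N S 1))
  have eM : Nonempty ((Scheme.Modules.pullback D.pX).obj ((Scheme.Modules.pullback (yι D.G)).obj
      (Twist.twistProjSpace N S 1)) ≅ (Scheme.Modules.pullback ι).obj (Twist.twistProjSpace N k 1)) :=
    ⟨(Scheme.Modules.pullbackComp D.pX (yι D.G)).app _ ≪≫ (Scheme.Modules.pullbackCongr D.hι).app _ ≪≫
      ((Scheme.Modules.pullbackComp ι (pmap S.val.toRingHom N)).app _).symm ≪≫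
      (Scheme.Modules.pullback ι).mapIso (Ega3A.PChart.pullTwistIso S.val.toRingHom N 1)⟩
  have e1 := ev_integral D.hX hS
  have e2 := ev_dim D.hX hS n hn
  have e3 := ev_integral D.hC hS
  have e4 := ev_dim D.hC hS 1 hCd
  have e5 := onField_of_ev (Φ := fun κ _ φ => ∀ (X' : Scheme.{u}) (q : X' ⟶ Y D.G)
      (g : X' ⟶ Spec (CommRingCat.of κ)), IsPullback q g (yStr D.G) (sp φ) →
      ∀ (C' : Scheme.{u}) (qc : C' ⟶ D.C₀) (m' : C' ⟶ X'), IsPullback qc (m' ≫ g) D.c₀ (sp φ) →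
      m' ≫ q = qc ≫ M.f₀ → ∃ U' : X'.Opens, (∀ z, m' z ∈ U') ∧ Smooth (U'.ι ≫ g))
    (ev_smooth_nhd D.hX hS D.hC f M.f₀ M.hf₀ hf M.hpf U hU hs) fun _ _ _ h => h
  have e6 := ev_deg_omega D.hX D.hC hS M.hpf n
  have e7 := ev_deg_pull D.hC hS M.hpf hE eM 1
  refine ((e1.and (e2.and (e3.and e4))).and (e5.and (e6.and e7))).mono fun T _ φ h κ _ e hκ => ?_
  obtain ⟨⟨h1, h2, h3, h4⟩, h5, h6, h7⟩ := h
  let φ' : S →+* κ := (e : T →+* κ).comp φ
  let _ : (pullback D.c₀ (sp φ')).Over (Spec (CommRingCat.of κ)) := ⟨pullback.snd D.c₀ (sp φ')⟩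
  have hqX := D.isPullback_rX φ'
  have hqC : IsPullback (pullback.fst D.c₀ (sp φ')) (pullback D.c₀ (sp φ') ↘ Spec (CommRingCat.of κ)) D.c₀ (sp φ') :=
    IsPullback.of_hasPullback _ _
  have hqC' : IsPullback (pullback.fst D.c₀ (sp φ')) (fT M φ' ≫ yStr (D.mG φ')) D.c₀ (sp φ') := by
    rw [fT_yStr]
    exact IsPullback.of_hasPullback _ _
  constructor
  · exact h1 κ e hκ _ _ _ hqX
  · exact h2 κ e _ _ _ hqX
  · exact h3 κ e hκ _ _ _ hqC
  · exact_mod_cast h4 κ e _ _ _ hqC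
  · exact h5 κ e _ _ _ hqX _ _ _ hqC' (fT_rX M φ')
  · exact h6 κ e _ _ _ hqX _ _ hqC _ (fT_rX M φ')
  · have h8 := h7 κ e _ (D.rX φ') _ (nonempty_pull_twist φ' D.G (D.mG φ') (fun _ => rfl) 1) _ _ hqC _ (fT_rX M φ')
    rw [← deg_congr ((Scheme.Modules.pullbackComp f ι).app _) 1, ← deg_congr
      ((Scheme.Modules.pullbackComp (fT M φ') (yι (D.mG φ'))).app _) 1]
    exact h8

end K43.EvGood
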