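import Groth.Agent.Lefpen.H872.RelBase
import Groth.Agent.Lefpen.H716.CIGeom

/-!
# Closed subschemes of projective space are defined by finitely many forms

`exists_forms`: every ideal sheaf on `P^N_k`, `k` a field, is the ideal sheaf of the common zeros of finitely many forms.
-/

set_option autoImplicit false
universe u

open CategoryTheory AlgebraicGeometry Limits TopologicalSpace Opposite

namespace K43.FormsOf

open Groth.Agent.Lefpen.H872.RelCI Groth.Agent.Divis.IdealComap Groth.Agent.Fdesc.LocGen

variable {N : ℕ} {k : Type u} [Field k]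

/-- The standard charts as affine opens. -/
noncomputable abbrev ch (i : Fin (N + 1)) : (CohB1.ProjSpace N k).affineOpens :=
  ⟨rchart N k i, isAffineOpen_rchart i⟩

theorem basicOpen_ratio (i j : Fin (N + 1)) :
    (CohB1.ProjSpace N k).basicOpen (ratio i j) = rchart N k i ⊓ rchart N k j := by
  ext x
  constructor
  · intro hx
    have hi : x ∈ rchart N k i := (CohB1.ProjSpace N k).basicOpen_le (ratio i j) hx
    exact ⟨hi, (Groth.Agent.Lefpen.H716.CIGeom.mem_basicOpen_dehom_iff
      (⟨MvPolynomial.X j, X_mem N k j⟩ : LefPen.Form N k 1) i x hi).mp hx⟩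
  · rintro ⟨hi, hj⟩
    exact (Groth.Agent.Lefpen.H716.CIGeom.mem_basicOpen_dehom_iff
      (⟨MvPolynomial.X j, X_mem N k j⟩ : LefPen.Form N k 1) i x hi).mpr hj

/-- The product of two forms. -/
noncomputable def mulF {a b : ℕ} (F : RForm N k a) (G : RForm N k b) : RForm N k (a + b) :=
  ⟨F.1 * G.1, SetLike.mul_mem_graded F.2 G.2⟩

theorem rdehom_mulF {a b : ℕ} (F : RForm N k a) (G : RForm N k b) (i : Fin (N + 1)) :
    rdehom (mulF F G) i = rdehom F i * rdehom G i := by
  refine section_ext _ _ fun p => ?_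
  have h1 : ((rdehom F i * rdehom G i).1 p).val = ((rdehom F i).1 p).val * ((rdehom G i).1 p).val := by
    change (((rdehom F i).1 p) * ((rdehom G i).1 p)).val = _
    rw [HomogeneousLocalization.val_mul]
  rw [h1, dehom_val, dehom_val, dehom_val, Localization.mk_mul, Localization.mk_eq_mk_iff,
    Localization.r_iff_exists]
  refine ⟨1, ?_⟩
  simp only [OneMemClass.coe_one, Submonoid.coe_mul, one_mul, mulF]
  ring

/-- The power of a variable, as a form. -/
noncomputable def powX (j : Fin (N + 1)) (s : ℕ) : RForm N k s :=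
  ⟨MvPolynomial.X j ^ s, by simpa using SetLike.pow_mem_graded s (X_mem N k j)⟩

theorem rdehom_powX (i j : Fin (N + 1)) (s : ℕ) : rdehom (powX j s : RForm N k s) i = ratio i j ^ s := by
  refine section_ext _ _ fun p => ?_
  have h1 : ((ratio (k := k) i j ^ s).1 p).val = ((ratio (k := k) i j).1 p).val ^ s := by
    change (((ratio (k := k) i j).1 p) ^ s).val = _
    rw [HomogeneousLocalization.val_pow]
  rw [h1, ratio, dehom_val, dehom_val, Localization.mk_pow, Localization.mk_eq_mk_iff,
    Localization.r_iff_exists]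
  refine ⟨1, ?_⟩
  simp only [OneMemClass.coe_one, one_mul, powX, SubmonoidClass.mk_pow, pow_one]

theorem ratio_self (j : Fin (N + 1)) : ratio (k := k) j j = 1 := by
  refine section_ext _ _ fun p => ?_
  have h2 : ((1 : Γ(CohB1.ProjSpace N k, rchart N k j)).1 p).val = 1 :=
    HomogeneousLocalization.val_one (x := (ProjectiveSpectrum.asHomogeneousIdeal p.1).toIdeal.primeCompl)
      (𝒜 := CohB1.polyGrading N k)
  rw [h2, ratio, dehom_val, ← Localization.mk_one, Localization.mk_eq_mk_iff, Localization.r_iff_exists]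
  refine ⟨1, ?_⟩
  simp only [OneMemClass.coe_one, one_mul, pow_one, mul_one]

/-- Every function on a chart is a dehomogenized form. -/
theorem exists_rdehom_eq (j : Fin (N + 1)) (h : Γ(CohB1.ProjSpace N k, rchart N k j)) :
    ∃ (d : ℕ) (G : RForm N k d), rdehom G j = h := by
  have h2 : IsIso (Proj.awayToSection (CohB1.polyGrading N k) (MvPolynomial.X j)) := by
    rw [← Proj.basicOpenIsoAway_hom (CohB1.polyGrading N k) (MvPolynomial.X j) (X_mem N k j) Nat.one_pos]
    infer_instance
  obtain ⟨z, rfl⟩ := (ConcreteCategory.bijective_of_isIso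
    (Proj.awayToSection (CohB1.polyGrading N k) (MvPolynomial.X j))).2 h
  obtain ⟨n, a, ha, rfl⟩ := HomogeneousLocalization.Away.mk_surjective (CohB1.polyGrading N k) (X_mem N k j) z
  exact ⟨n, ⟨a, by simpa using ha⟩, rfl⟩

/-- Every function in the ideal over a chart comes from a form in the homogeneous ideal. -/
theorem exists_form (J : (CohB1.ProjSpace N k).IdealSheafData) (j : Fin (N + 1))
    (h : Γ(CohB1.ProjSpace N k, rchart N k j)) (hh : h ∈ J.ideal (ch j)) :
    ∃ (d : ℕ) (G : RForm N k d), rdehom G j = h ∧ ∀ i, rdehom G i ∈ J.ideal (ch i) := by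
  classical
  obtain ⟨d, G, rfl⟩ := exists_rdehom_eq j h
  have key : ∀ i, ∃ s : ℕ, ratio i j ^ s * rdehom G i ∈ J.ideal (ch i) := by
    intro i
    have hVi : (CohB1.ProjSpace N k).basicOpen (ratio (k := k) i j) ≤ rchart N k i :=
      (CohB1.ProjSpace N k).basicOpen_le _
    have hVj : (CohB1.ProjSpace N k).basicOpen (ratio (k := k) i j) ≤ rchart N k j := by
      rw [basicOpen_ratio]; exact inf_le_right
    have h1 : ores hVi (rdehom G i) ∈ J.ideal ((CohB1.ProjSpace N k).affineBasicOpen (U := ch i) (ratio i j)) := by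
      rw [ores_dehom G i j _ hVi hVj]
      refine Ideal.mul_mem_left _ _ ?_
      exact J.ideal_le_comap_ideal (U := (CohB1.ProjSpace N k).affineBasicOpen (U := ch i) (ratio i j)) (V := ch j)
        hVj hh
    rw [← J.map_ideal_basicOpen] at h1
    let _inst := ((CohB1.ProjSpace N k).presheaf.map (homOfLE hVi).op).hom.toAlgebra
    have hloc : IsLocalization.Away (ratio i j)
        Γ(CohB1.ProjSpace N k, (CohB1.ProjSpace N k).basicOpen (ratio (k := k) i j)) :=
      (ch i).2.isLocalization_basicOpen (ratio i j)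
    have h2 := (IsLocalization.algebraMap_mem_map_algebraMap_iff (Submonoid.powers (ratio (k := k) i j))
      Γ(CohB1.ProjSpace N k, (CohB1.ProjSpace N k).basicOpen (ratio (k := k) i j)) (J.ideal (ch i)) (rdehom G i)).mp h1
    obtain ⟨_, ⟨s, rfl⟩, hs⟩ := h2
    exact ⟨s, hs⟩
  choose s hs using key
  let t := Finset.univ.sup s
  have ht : ∀ i, s i ≤ t := fun i => Finset.le_sup (Finset.mem_univ i)
  refine ⟨t + d, mulF (powX j t) G, ?_, fun i => ?_⟩
  · rw [rdehom_mulF, rdehom_powX, ratio_self, one_pow, one_mul]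
  · rw [rdehom_mulF, rdehom_powX, ← Nat.sub_add_cancel (ht i), pow_add, mul_assoc]
    exact Ideal.mul_mem_left _ _ (hs i)

/-- **Closed subschemes of projective space are cut out by finitely many forms.** -/
theorem exists_forms (J : (CohB1.ProjSpace N k).IdealSheafData) :
    ∃ (m : ℕ) (a : Fin m → ℕ) (G : ∀ j : Fin m, RForm N k (a j)), rciIdeal G = J := by
  classical
  have hfg : ∀ j : Fin (N + 1), (J.ideal (ch j)).FG := by
    intro j
    have h1 : IsNoetherianRing Γ(CohB1.ProjSpace N k, rchart N k j) :=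
      isNoetherianRing_of_surjective _ _ (polyToChart (r := N) (k := k) j) (polyToChart_bijective j).2
    exact h1.noetherian _
  choose F hF using hfg
  have hmem : ∀ c : (Σ j : Fin (N + 1), F j), c.2.1 ∈ J.ideal (ch c.1) := by
    rintro ⟨j, h⟩
    rw [← hF j]
    exact Ideal.subset_span h.2
  choose d G hG hG' using fun c : (Σ j : Fin (N + 1), F j) => exists_form J c.1 c.2.1 (hmem c)
  let e := (Fintype.equivFin (Σ j : Fin (N + 1), F j)).symm
  refine ⟨Fintype.card (Σ j : Fin (N + 1), F j), fun l => d (e l), fun l => G (e l), ?_⟩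
  refine Scheme.IdealSheafData.ext_of_iSup_eq_top (fun j : Fin (N + 1) => ch j) iSup_rchart fun i => ?_
  rw [rciIdeal, Scheme.IdealSheafData.ideal_iSup, iSup_apply]
  apply le_antisymm
  · refine iSup_le fun l => ?_
    rw [rhypIdeal_ideal_of_le _ i (ch i) le_rfl, Ideal.span_singleton_le_iff_mem, ores_refl]
    exact hG' (e l) i
  · conv_lhs => rw [← hF i]
    rw [Ideal.span_le]
    intro h hh
    have h1 := hG ⟨i, ⟨h, hh⟩⟩
    refine (le_iSup (fun l => (rhypIdeal (G (e l))).ideal (ch i)) (e.symm ⟨i, ⟨h, hh⟩⟩)) ?_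
    rw [rhypIdeal_ideal_of_le _ i (ch i) le_rfl, ores_refl, Equiv.apply_symm_apply]
    dsimp only at h1
    rw [h1]
    exact Ideal.mem_span_singleton_self h

end K43.FormsOf
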