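import Groth.Agent.Curves.K43.MorStage
import Groth.Agent.Curves.K43.FormsOf
import Groth.Agent.VarietyB.ProjHom

/-!
# Models of curves in projective schemes over finitely generated rings

`k` a field, `ι : X ⟶ P^N_k` closed, `f : C ⟶ X`, `C` smooth and proper, `x : Spec k ⟶ C`.
* `Dt S`: models over the finitely generated ring `S ≤ k`: `C₀` smooth and proper, `V(G) ⊆ P^N_S`; `Dt1`: moreover a
  morphism `f₀ : C₀ ⟶ V(G)`; `Dt2`: moreover a section `x₀`.
* `Dt.up`, `Dt1.up`, `Dt2.up`: base change to a larger `S'`; `exists_dt2`.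
-/

set_option autoImplicit false
universe u
open CategoryTheory CategoryTheory.Limits AlgebraicGeometry Opposite Topology

namespace K43.FamData

open K890.Spread K890.Model K890.Polarized K43.MorStage K43.FormsOf
open Groth.Agent.Lefpen.H872.RelCI Groth.Agent.Lefpen.H872.RelBase Groth.Agent.CohqB.ProjBC

instance isProper_yStr' {R : Type u} [CommRing R] {N m : ℕ} {a : Fin m → ℕ} (G : ∀ j, RForm N R (a j)) :
    IsProper (yStr G) := by
  have h1 : IsProper (CohB1.ProjSpace.toSpec N R) := Groth.Agent.Ega3B.ProjProper.isProper_toSpec N R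
  have h2 : IsProper (yι G) := inferInstance
  exact MorphismProperty.comp_mem @IsProper _ _ h2 h1

theorem lfp_yStr {k : Type u} [Field k] {S : Subalgebra ℤ k} (hS : S.FG) {N m : ℕ} {a : Fin m → ℕ}
    (G : ∀ j, RForm N S (a j)) : LocallyOfFinitePresentation (yStr G) := by
  have h0 : Algebra.FiniteType ℤ S := (Subalgebra.fg_iff_finiteType S).1 hS
  have : IsNoetherianRing (CommRingCat.of S) := Algebra.FiniteType.isNoetherianRing ℤ S
  rw [LocallyOfFinitePresentation.iff_locallyOfFiniteType]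
  infer_instance

theorem pmap_comp {A B T : Type u} [CommRing A] [CommRing B] [CommRing T] (N : ℕ) (φ : A →+* B) (ψ : B →+* T) :
    pmap (ψ.comp φ) N = pmap ψ N ≫ pmap φ N := by
  have h : gmap (ψ.comp φ) N = (gmap ψ N).comp (gmap φ N) := by
    ext x
    rw [GradedRingHom.comp_apply, gmap_apply, gmap_apply, gmap_apply, MvPolynomial.map_map]
  have h1 := Proj.map_comp (gmap φ N) (gmap ψ N) (irrelevant_le φ N) (irrelevant_le ψ N)
  refine Eq.trans ?_ h1
  unfold pmap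
  congr 1

variable {k : Type u} [Field k] {N : ℕ} {X C : Scheme.{u}} (sX : X ⟶ Spec (CommRingCat.of k))
  (ι : X ⟶ CohB1.ProjSpace N k) (sC : C ⟶ Spec (CommRingCat.of k))

/-- Models of `X ⊆ P^N` and of `C` over `S`. -/
structure Dt (S : Subalgebra ℤ k) where
  hs : ι ≫ CohB1.ProjSpace.toSpec N k = sX
  m : ℕ
  a : Fin m → ℕ
  G : ∀ j : Fin m, RForm N S (a j)
  C₀ : Scheme.{u}
  c₀ : C₀ ⟶ Spec (CommRingCat.of S)
  pC : C ⟶ C₀
  pX : X ⟶ Y G
  proper : IsProper c₀
  smooth : Smooth c₀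
  hC : IsPullback pC sC c₀ (sv S)
  hX : IsPullback pX sX (yStr G) (sv S)
  hι : pX ≫ yι G = ι ≫ pmap S.val.toRingHom N
  hk : rciIdeal (fun j => mapForm S.val.toRingHom (G j)) = ι.ker

attribute [instance] Dt.proper Dt.smooth

variable {sX ι sC} {S : Subalgebra ℤ k}

namespace Dt

variable (D : Dt sX ι sC S)

/-- The forms over another ring. -/
noncomputable abbrev mG {T : Type u} [CommRing T] (φ : S →+* T) : ∀ j : Fin D.m, RForm N T (D.a j) :=
  fun j => mapForm φ (D.G j)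

/-- The map between the schemes of zeros. -/
noncomputable abbrev rX {T : Type u} [CommRing T] (φ : S →+* T) : Y (D.mG φ) ⟶ Y D.G := rMap φ D.G (D.mG φ) fun _ => rfl

theorem isPullback_rX {T : Type u} [CommRing T] (φ : S →+* T) :
    IsPullback (D.rX φ) (yStr (D.mG φ)) (yStr D.G) (sp φ) :=
  isPullback_rMap_toSpec φ D.G (D.mG φ) fun _ => rfl

/-- the projection at the larger stage -/
noncomputable def upX {S' : Subalgebra ℤ k} (h : S ≤ S') : X ⟶ Y (D.mG (inc h)) :=
  (D.isPullback_rX (inc h)).lift D.pX (sX ≫ sv S') (by rw [D.hX.w, Category.assoc, sv_inc])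

@[reassoc]
theorem upX_rX {S' : Subalgebra ℤ k} (h : S ≤ S') : D.upX h ≫ D.rX (inc h) = D.pX := IsPullback.lift_fst _ _ _ _

@[reassoc]
theorem upX_yStr {S' : Subalgebra ℤ k} (h : S ≤ S') : D.upX h ≫ yStr (D.mG (inc h)) = sX ≫ sv S' :=
  IsPullback.lift_snd _ _ _ _

/-- the projection at the larger stage -/
noncomputable def upC {S' : Subalgebra ℤ k} (h : S ≤ S') : C ⟶ pullback D.c₀ (sp (inc h)) :=
  (exists_up D.c₀ D.hC h).choose

@[reassoc]
theorem upC_fst {S' : Subalgebra ℤ k} (h : S ≤ S') : D.upC h ≫ pullback.fst D.c₀ (sp (inc h)) = D.pC :=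
  (exists_up D.c₀ D.hC h).choose_spec.1

theorem isPullback_upC {S' : Subalgebra ℤ k} (h : S ≤ S') :
    IsPullback (D.upC h) sC (pullback.snd D.c₀ (sp (inc h))) (sv S') :=
  (exists_up D.c₀ D.hC h).choose_spec.2

/-- Base change to a larger ring. -/
noncomputable def up {S' : Subalgebra ℤ k} (h : S ≤ S') : Dt sX ι sC S' where
  hs := D.hs
  m := D.m
  a := D.a
  G := D.mG (inc h)
  C₀ := pullback D.c₀ (sp (inc h))
  c₀ := pullback.snd D.c₀ (sp (inc h))
  pC := D.upC h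
  pX := D.upX h
  proper := inferInstance
  smooth := MorphismProperty.pullback_snd (P := @Smooth) _ _ inferInstance
  hC := D.isPullback_upC h
  hX := by
    refine IsPullback.of_right ?_ (D.upX_yStr h) (D.isPullback_rX (inc h))
    rw [upX_rX, sv_inc]
    exact D.hX
  hι := by
    apply (isPullback_pmap (inc h) N).hom_ext
    · have h1 : D.rX (inc h) ≫ yι D.G = yι (D.mG (inc h)) ≫ pmap (inc h) N := rMap_subschemeι _ _ _ _
      rw [Category.assoc, ← h1, upX_rX_assoc, D.hι, Category.assoc, ← pmap_comp]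
      rfl
    · rw [Category.assoc, Category.assoc, (isPullback_pmap S'.val.toRingHom N).w, ← Category.assoc ι, D.hs]
      exact D.upX_yStr h
  hk := by
    have h1 : (fun j => mapForm S'.val.toRingHom (D.mG (inc h) j)) = fun j => mapForm S.val.toRingHom (D.G j) := by
      funext j
      apply Subtype.ext
      rw [mapForm_val, mapForm_val, mapForm_val, MvPolynomial.map_map]
      rfl
    rw [h1]
    exact D.hk

end Dt

variable {f : C ⟶ X} {x : Spec (CommRingCat.of k) ⟶ C}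

/-- A model of `f`. -/
structure Mf (D : Dt sX ι sC S) (f : C ⟶ X) where
  f₀ : D.C₀ ⟶ Y D.G
  hf₀ : f₀ ≫ yStr D.G = D.c₀
  hpf : D.pC ≫ f₀ = f ≫ D.pX

/-- A model of the point `x`. -/
structure Mx (D : Dt sX ι sC S) (x : Spec (CommRingCat.of k) ⟶ C) where
  x₀ : Spec (CommRingCat.of S) ⟶ D.C₀
  hx₀ : x₀ ≫ D.c₀ = 𝟙 _
  hpx : sv S ≫ x₀ = x ≫ D.pC

theorem upC_lift (D : Dt sX ι sC S) {S' : Subalgebra ℤ k} (h : S ≤ S') (hf : f ≫ sX = sC)
    (g₀ : pullback D.c₀ (sp (inc h)) ⟶ Y D.G)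
    (h4 : g₀ ≫ yStr D.G = pullback.snd D.c₀ (sp (inc h)) ≫ sp (inc h)) (h3 : D.upC h ≫ g₀ = f ≫ D.pX) :
    D.upC h ≫ (D.isPullback_rX (inc h)).lift g₀ (pullback.snd D.c₀ (sp (inc h))) h4 = f ≫ D.upX h := by
  apply (D.isPullback_rX (inc h)).hom_ext
  · rw [Category.assoc, IsPullback.lift_fst, Category.assoc, Dt.upX_rX, h3]
  · rw [Category.assoc, IsPullback.lift_snd, Category.assoc, Dt.upX_yStr, (D.isPullback_upC h).w, ← Category.assoc, hf]

/-- From a morphism of the larger stage to `Y G`. -/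
noncomputable def mfOf (D : Dt sX ι sC S) {S' : Subalgebra ℤ k} (h : S ≤ S') (hf : f ≫ sX = sC)
    (g₀ : pullback D.c₀ (sp (inc h)) ⟶ Y D.G)
    (h4 : g₀ ≫ yStr D.G = pullback.snd D.c₀ (sp (inc h)) ≫ sp (inc h)) (h3 : D.upC h ≫ g₀ = f ≫ D.pX) :
    Mf (D.up h) f where
  f₀ := (D.isPullback_rX (inc h)).lift g₀ (pullback.snd D.c₀ (sp (inc h))) h4
  hf₀ := IsPullback.lift_snd _ _ _ _
  hpf := upC_lift D h hf g₀ h4 h3

theorem sv_lift (D : Dt sX ι sC S) {S' : Subalgebra ℤ k} (h : S ≤ S') (hx : x ≫ sC = 𝟙 _)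
    (g₀ : Spec (CommRingCat.of S') ⟶ D.C₀) (h2 : g₀ ≫ D.c₀ = 𝟙 _ ≫ sp (inc h)) (h1 : sv S' ≫ g₀ = x ≫ D.pC) :
    sv S' ≫ pullback.lift g₀ (𝟙 _) h2 = x ≫ D.upC h := by
  apply pullback.hom_ext
  · rw [Category.assoc, pullback.lift_fst, Category.assoc, Dt.upC_fst, h1]
  · rw [Category.assoc, pullback.lift_snd, Category.assoc, Category.comp_id, (D.isPullback_upC h).w,
      ← Category.assoc, hx, Category.id_comp]

/-- Base change to a larger ring. -/
noncomputable def Mf.up {D : Dt sX ι sC S} (M : Mf D f) (hf : f ≫ sX = sC) {S' : Subalgebra ℤ k} (h : S ≤ S') :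
    Mf (D.up h) f :=
  mfOf D h hf (pullback.fst D.c₀ (sp (inc h)) ≫ M.f₀) (by rw [Category.assoc, M.hf₀, pullback.condition])
    (by rw [Dt.upC_fst_assoc, M.hpf])

theorem exists_mf [QuasiCompact sC] (D : Dt sX ι sC S) (hS : S.FG) (hf : f ≫ sX = sC) :
    ∃ (S' : Subalgebra ℤ k) (hle : S ≤ S') (_ : S'.FG), Nonempty (Mf (D.up hle) f) := by
  have hlfp : LocallyOfFinitePresentation (yStr D.G) := lfp_yStr hS D.G
  obtain ⟨S', hle, hS', p', g₀, h1, h2, h3, h4⟩ := exists_mor_stage D.hC hS (yStr D.G) (f ≫ D.pX)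
    (by rw [Category.assoc, D.hX.w, ← Category.assoc, hf])
  have hp' : p' = D.upC hle := by
    apply pullback.hom_ext
    · rw [h1, Dt.upC_fst]
    · rw [h2.w, (D.isPullback_upC hle).w]
  subst hp'
  exact ⟨S', hle, hS', ⟨mfOf D hle hf g₀ h4 h3⟩⟩

theorem exists_mx (D : Dt sX ι sC S) (hS : S.FG) (hx : x ≫ sC = 𝟙 _) :
    ∃ (S' : Subalgebra ℤ k) (hle : S ≤ S') (_ : S'.FG), Nonempty (Mx (D.up hle) x) := by
  obtain ⟨S', hle, hS', g₀, h1, h2⟩ := exists_point_stage hS D.c₀ (x ≫ D.pC)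
    (by rw [Category.assoc, D.hC.w, ← Category.assoc, hx, Category.id_comp])
  exact ⟨S', hle, hS', ⟨⟨pullback.lift g₀ (𝟙 _) (by rw [h2, Category.id_comp]), pullback.lift_snd _ _ _,
    sv_lift D hle hx g₀ (by rw [h2, Category.id_comp]) h1⟩⟩⟩

/-- Base change to a larger ring. -/
noncomputable def Mx.up {D : Dt sX ι sC S} (M : Mx D x) (hx : x ≫ sC = 𝟙 _) {S' : Subalgebra ℤ k} (h : S ≤ S') :
    Mx (D.up h) x where
  x₀ := pullback.lift (sp (inc h) ≫ M.x₀) (𝟙 _) (by rw [Category.assoc, M.hx₀, Category.comp_id, Category.id_comp])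
  hx₀ := pullback.lift_snd _ _ _
  hpx := sv_lift D h hx _ _ (by rw [← Category.assoc, sv_inc, M.hpx])

section Exists

/-- The model at the first stage, containing a given finite set. -/
theorem exists_dt (ι : X ⟶ CohB1.ProjSpace N k) [IsClosedImmersion ι] (hι : ι ≫ CohB1.ProjSpace.toSpec N k = sX)
    [IsProper sC] [Smooth sC] {L : C.Modules} (hL : CohB1.IsAmple L) (F : Finset k) :
    ∃ (S : Subalgebra ℤ k) (_ : S.FG), (F : Set k) ⊆ S ∧ Nonempty (Dt sX ι sC S) := by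
  classical
  obtain ⟨m, a, G, hG⟩ := exists_forms ι.ker
  obtain ⟨S₁, hS₁, C₀, c₀, pC, -, hC, hp, hsm, -, -⟩ := exists_smooth_ample_model sC hL
  let F' : Finset k := F ∪ Finset.univ.biUnion fun j => (G j).1.coeffs
  let S : Subalgebra ℤ k := S₁ ⊔ Algebra.adjoin ℤ (F' : Set k)
  have h1 : S₁ ≤ S := le_sup_left
  have h2 : (F' : Set k) ⊆ S := fun y hy =>
    (le_sup_right : Algebra.adjoin ℤ (F' : Set k) ≤ S) (Algebra.subset_adjoin hy)
  have hS : S.FG := hS₁.sup (Subalgebra.fg_adjoin_finset F')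
  have h3 : ∀ j, ∃ G₀ : RForm N S (a j), mapForm S.val.toRingHom G₀ = G j := by
    intro j
    have h4 : (G j).1 ∈ Set.range (MvPolynomial.map S.val.toRingHom) := by
      rw [MvPolynomial.mem_range_map_iff_coeffs_subset]
      intro y hy
      exact ⟨⟨y, h2 (Finset.mem_coe.mpr (Finset.mem_union_right _ (Finset.mem_biUnion.mpr
        ⟨j, Finset.mem_univ j, hy⟩)))⟩, rfl⟩
    obtain ⟨G₀, hG₀⟩ := h4
    refine ⟨⟨G₀, ?_⟩, Subtype.ext hG₀⟩
    rw [CohB1.polyGrading, MvPolynomial.mem_homogeneousSubmodule]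
    have h5 : (G j).1.IsHomogeneous (a j) := (MvPolynomial.mem_homogeneousSubmodule _ _).mp (G j).2
    rw [← hG₀] at h5
    exact MvPolynomial.IsHomogeneous.of_map Subtype.val_injective h5
  choose G₀ hG₀ using h3
  obtain ⟨pC', hpC', hC'⟩ := exists_up c₀ hC h1
  have hk : rciIdeal (fun j => mapForm S.val.toRingHom (G₀ j)) = ι.ker := by
    rw [← hG]; congr 1; funext j; exact hG₀ j
  let G' : ∀ j : Fin m, RForm N k (a j) := fun j => mapForm S.val.toRingHom (G₀ j)
  have hk' : (yι G').ker = ι.ker := by rw [Scheme.IdealSheafData.ker_subschemeι]; exact hk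
  let e : X ⟶ Y G' := IsClosedImmersion.lift (yι G') ι hk'.le
  have he : e ≫ yι G' = ι := IsClosedImmersion.lift_fac _ _ _
  have hei : IsIso e := IsClosedImmersion.isIso_lift _ _ hk'
  have hpb := isPullback_rMap_toSpec S.val.toRingHom G₀ G' fun _ => rfl
  refine ⟨S, hS, fun y hy => h2 (Finset.mem_coe.mpr (Finset.mem_union_left _ hy)), ⟨⟨hι, m, a, G₀,
    pullback c₀ (sp (inc h1)), pullback.snd c₀ (sp (inc h1)), pC', e ≫ rMap S.val.toRingHom G₀ G' fun _ => rfl,
    inferInstance, MorphismProperty.pullback_snd (P := @Smooth) _ _ inferInstance, hC', ?_, ?_, hk⟩⟩⟩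
  · refine IsPullback.of_iso hpb (asIso e).symm (Iso.refl _) (Iso.refl _) (Iso.refl _) ?_ ?_ (by simp) (by simp; rfl)
    · simp
    · simp only [Iso.symm_hom, asIso_inv, Iso.refl_hom, Category.comp_id, IsIso.eq_inv_comp]
      rw [← Category.assoc, he, hι]
  · have h6 : rMap S.val.toRingHom G₀ G' (fun _ => rfl) ≫ yι G₀ = yι G' ≫ pmap S.val.toRingHom N :=
      rMap_subschemeι _ _ _ _
    rw [Category.assoc, h6, ← Category.assoc, he]

end Exists

end K43.FamData
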