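import Groth.Agent.AdjLin.K801.StageDesc

/-!
# Morphisms and points descend to a finitely generated stage

`X₀ → Spec S` a model of `X → Spec k`, `p : X ⟶ X₀`.
* `exists_mor_stage`: an `S`-morphism `X ⟶ Z`, `Z` locally of finite presentation over `S`, comes from a larger stage;
* `exists_point_stage`: the same for `k`-points;
* `exists_stage_of_ev`: a stage satisfying a property that holds eventually.
-/

set_option autoImplicit false
universe u
open CategoryTheory CategoryTheory.Limits AlgebraicGeometry Opposite Topology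

namespace K43.MorStage

open K890.Spread K890.Model K801.StageDesc
open Groth.Agent.PerfB.ApproxRing Groth.Agent.CalgA.LimFP

variable {k : Type u} [Field k] {S : Subalgebra ℤ k} {X X₀ : Scheme.{u}} {f : X ⟶ Spec (CommRingCat.of k)}
  {f₀ : X₀ ⟶ Spec (CommRingCat.of S)} {p : X ⟶ X₀}

/-- An `S`-morphism from `X` to a scheme locally of finite presentation over `S` comes from a larger stage. -/
theorem exists_mor_stage [QuasiCompact f₀] [QuasiSeparated f₀] (H : IsPullback p f f₀ (sv S)) (hS : S.FG)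
    {Z : Scheme.{u}} (v : Z ⟶ Spec (CommRingCat.of S)) [LocallyOfFinitePresentation v] (g : X ⟶ Z)
    (hg : g ≫ v = f ≫ sv S) :
    ∃ (S' : Subalgebra ℤ k) (hle : S ≤ S') (_ : S'.FG) (p' : X ⟶ pullback f₀ (sp (inc hle)))
      (g₀ : pullback f₀ (sp (inc hle)) ⟶ Z), p' ≫ pullback.fst f₀ (sp (inc hle)) = p ∧
      IsPullback p' f (pullback.snd f₀ (sp (inc hle))) (sv S') ∧ p' ≫ g₀ = g ∧
      g₀ ≫ v = pullback.snd f₀ (sp (inc hle)) ≫ sp (inc hle) := by
  let i : (Idx k)ᵒᵖ := ix hS
  let g₁ : X₀ ⟶ (specDiag k).obj i := f₀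
  have H' : IsPullback p f g₁ ((specCone k).π.app i) := H
  have i1 : QuasiCompact g₁ := inferInstanceAs (QuasiCompact f₀)
  have i2 : QuasiSeparated g₁ := inferInstanceAs (QuasiSeparated f₀)
  let C : Cone (bcDiagram (specDiag k) g₁) := bcCone (c := specCone k) (f' := (f : X ⟶ (specCone k).pt)) H'
  have hc : IsLimit C := isLimitBcCone (specIsLimit k) H'
  have h1 : ∀ {j l : Over i} (a : j ⟶ l), IsAffineHom ((bcDiagram (specDiag k) g₁).map a) :=
    fun {_ _} a => isAffineHom_bcDiagram_map a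
  have h2 : ∀ j : Over i, CompactSpace ((bcDiagram (specDiag k) g₁).obj j) :=
    fun j => compactSpace_bcDiagram_obj j
  have h3 : ∀ j : Over i, QuasiSeparatedSpace ((bcDiagram (specDiag k) g₁).obj j) :=
    fun j => quasiSeparatedSpace_bcDiagram_obj j
  let t : bcDiagram (specDiag k) g₁ ⟶ (Functor.const (Over i)).obj ((specDiag k).obj i) :=
    { app := fun j => pullback.fst _ _ ≫ g₁
      naturality := fun j l a =>
        (pullback.lift_fst_assoc _ _ _ _).trans (Category.comp_id _).symm }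
  let v' : Z ⟶ (specDiag k).obj i := v
  have i3 : LocallyOfFinitePresentation v' := inferInstanceAs (LocallyOfFinitePresentation v)
  obtain ⟨j, b, hb1, hb2⟩ := Scheme.exists_π_app_comp_eq_of_locallyOfFinitePresentation
    (bcDiagram (specDiag k) g₁) t v' C hc g (by
      ext j
      simp only [NatTrans.comp_app, Functor.const_obj_obj, Functor.const_map_app, t, C, bcCone_π_app]
      exact (pullback.lift_fst_assoc _ _ _ _).trans (H.w.trans hg.symm))
  have hle : S ≤ j.left.unop.1 := j.hom.unop.le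
  let p' : X ⟶ pullback f₀ (sp (inc hle)) := C.π.app j
  have e1 : p' ≫ pullback.fst f₀ (sp (inc hle)) = p := pullback.lift_fst _ _ _
  have e2 : p' ≫ pullback.snd f₀ (sp (inc hle)) = f ≫ sv j.left.unop.1 := pullback.lift_snd _ _ _
  exact ⟨j.left.unop.1, hle, j.left.unop.2, p', b, e1, compat H hle e1 e2, hb1, hb2.trans pullback.condition⟩

/-- A `k`-point of `Z` comes from a larger stage. -/
theorem exists_point_stage (hS : S.FG) {Z : Scheme.{u}} (v : Z ⟶ Spec (CommRingCat.of S))
    [LocallyOfFinitePresentation v] (g : Spec (CommRingCat.of k) ⟶ Z) (hg : g ≫ v = sv S) :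
    ∃ (S' : Subalgebra ℤ k) (hle : S ≤ S') (_ : S'.FG) (g₀ : Spec (CommRingCat.of S') ⟶ Z),
      sv S' ≫ g₀ = g ∧ g₀ ≫ v = sp (inc hle) := by
  have H : IsPullback (sv S) (𝟙 _) (𝟙 _) (sv S) := IsPullback.of_vert_isIso ⟨by simp⟩
  obtain ⟨S', hle, hS', p', g₀, h1, h2, h3, h4⟩ := exists_mor_stage H hS v g (by rw [hg, Category.id_comp])
  have hi : IsIso (pullback.snd (𝟙 (Spec (CommRingCat.of S))) (sp (inc hle))) := inferInstance
  refine ⟨S', hle, hS', inv (pullback.snd (𝟙 (Spec (CommRingCat.of S))) (sp (inc hle))) ≫ g₀, ?_, ?_⟩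
  · rw [← h3, ← Category.assoc]
    congr 1
    rw [IsIso.comp_inv_eq, h2.w, Category.id_comp]
  · rw [Category.assoc, h4, IsIso.inv_hom_id_assoc]

/-- A stage satisfying a property that holds eventually. -/
theorem exists_stage_of_ev {Φ : ∀ (T : Type u) [CommRing T], (S →+* T) → Prop} (h : Ev S Φ) :
    ∃ (S' : Subalgebra ℤ k) (hle : S ≤ S') (_ : S'.FG), Φ S' (inc hle) := by
  obtain ⟨S', hle, s, hfg, hs, H⟩ := h
  have hs' : (s : k) ≠ 0 := fun h => hs (Subtype.ext h)
  let S'' : Subalgebra ℤ k := S' ⊔ Algebra.adjoin ℤ {(s : k)⁻¹}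
  have h1 : S' ≤ S'' := le_sup_left
  have h2 : (s : k)⁻¹ ∈ S'' := (le_sup_right : Algebra.adjoin ℤ {(s : k)⁻¹} ≤ S'') (Algebra.subset_adjoin rfl)
  have h3 : (Algebra.adjoin ℤ {(s : k)⁻¹}).FG := by
    have := Subalgebra.fg_adjoin_finset (R := ℤ) {(s : k)⁻¹}
    rwa [Finset.coe_singleton] at this
  refine ⟨S'', hle.trans h1, hfg.sup h3, ?_⟩
  have hu : IsUnit ((inc h1) s) := by
    refine IsUnit.of_mul_eq_one ⟨(s : k)⁻¹, h2⟩ (Subtype.ext ?_)
    change (s : k) * (s : k)⁻¹ = 1
    exact mul_inv_cancel₀ hs'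
  exact H S'' (inc h1) hu

end K43.MorStage
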