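import Groth.Agent.Curves.K43.TupSpread
import Groth.Agent.Curves.K43.PtBC
import Groth.Agent.Curves.K329.CurvePoly
import Mathlib.AlgebraicGeometry.AlgClosed.Basic

/-!
# Rational curves on `V(G)` through a point and tuples of polynomials

`k` a field, `G` forms.
* `exists_curve_of_tup`: a tuple of polynomials of degree at most `e` with value `v` at `0`, not proportional to
  `v`, on which `G` vanishes, gives a rational curve of degree at most `e` on `V(G)` through `[v]` (`k` infinite).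
* `exists_tup_of_curve`: the converse over an algebraically closed field.
-/

set_option autoImplicit false
universe u
open CategoryTheory CategoryTheory.Limits AlgebraicGeometry Opposite Topology IsLocalRing

namespace K43.TupCurve

open K329.Pt K329.P1Gen K329.Homog K329.Curve K329.Deg K329.DegPoly K329.CurvePoly K329.Link K329.Limit
open K43.TupSpread K43.PtBC CohB1
open Groth.Agent.Lefpen.H872.RelCI Groth.Agent.Lefpen.H872.RelBase

variable {k : Type u} [Field k] {N m : ℕ} {a : Fin m → ℕ}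

section Forward

/-- A rational curve from a tuple of polynomials. -/
theorem exists_curve_of_tup [Infinite k] {X : Scheme.{u}} (pX : X ⟶ Spec (CommRingCat.of k)) [IsProper pX]
    (ι : X ⟶ ProjSpace N k) [IsClosedImmersion ι] (hι : ι ≫ ProjSpace.toSpec N k = pX)
    (G : ∀ j : Fin m, RForm N k (a j)) (hk : rciIdeal G = ι.ker) (v : Fin (N + 1) → k) (i₁ : Fin (N + 1))
    (hi₁ : IsUnit (v i₁)) (e : ℕ) (h : Tup v (fun l => (G l).1) e) :
    ∃ g : ProjSpace 1 k ⟶ X, g ≫ pX = ProjSpace.toSpec 1 k ∧ (¬ ∃ y : X, Set.range g.base ⊆ {y}) ∧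
      pt1 k (0 : k) ≫ g ≫ ι = pt k v i₁ hi₁ ∧
      Curv2.deg k (ProjSpace 1 k) ((Scheme.Modules.pullback (g ≫ ι)).obj (Twist.twistProjSpace N k 1)) 1 ≤ e := by
  obtain ⟨h, hd, h0, ⟨i, j, hij⟩, hG⟩ := h
  have hc0 : (fun l => (h l).coeff 0) = v := by
    funext l
    rw [Polynomial.coeff_zero_eq_eval_zero, h0]
  have hi₁' : IsUnit ((h i₁).coeff 0) := by
    rw [Polynomial.coeff_zero_eq_eval_zero, h0]; exact hi₁
  obtain ⟨b, hb⟩ : ∃ b, (h i).coeff b * v j ≠ (h j).coeff b * v i := by
    by_contra hcon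
    push Not at hcon
    exact hij (Polynomial.ext fun b => by rw [Polynomial.coeff_mul_C, Polynomial.coeff_mul_C, hcon b])
  have hb0 : (fun l => (h l).coeff b) ≠ 0 := by
    intro h1
    have h2 : ∀ l, (h l).coeff b = 0 := fun l => congrFun h1 l
    exact hb (by rw [h2, h2, zero_mul, zero_mul])
  have hb1 : ¬ Prp (fun l => (h l).coeff 0) (fun l => (h l).coeff b) := by
    rw [hc0]
    rintro ⟨c, -, hc⟩
    have h2 : ∀ l, (h l).coeff b = c * v l := fun l => congrFun hc l
    exact hb (by rw [h2, h2]; ring)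
  obtain ⟨g, h1, h2, h3, h4⟩ := exists_curve_of_values pX ι hι e h hd i₁ hi₁' b hb0 hb1 (by
    intro t j' hj'
    have h5 : ∀ l, MvPolynomial.eval (fun l => (h l).eval t) (G l).1 = 0 := by
      intro l
      have h6 := congrArg (Polynomial.eval t) (hG l)
      rw [Polynomial.eval_zero] at h6
      refine Eq.trans ?_ h6
      rw [MvPolynomial.aeval_def, MvPolynomial.eval₂_eq', Polynomial.eval_finsetSum, MvPolynomial.eval_eq']
      refine Finset.sum_congr rfl fun s _ => ?_
      simp [Polynomial.eval_prod]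
    obtain ⟨y, hy⟩ := (exists_fac_iff G (fun l => (h l).eval t) j' hj').mpr h5
    have h7 : ι.ker ≤ (y ≫ yι G).ker := by
      rw [← hk]
      have h8 : (yι G).ker ≤ (y ≫ yι G).ker := Scheme.Hom.le_ker_comp _ _
      rwa [Scheme.IdealSheafData.ker_subschemeι] at h8
    exact ⟨IsClosedImmersion.lift ι (y ≫ yι G) h7, (IsClosedImmersion.lift_fac _ _ _).trans hy⟩)
  refine ⟨g, h1, h2, ?_, h4⟩
  rw [h3]
  congr 1

end Forward

section Backward

theorem eval_aeval (h : Fin (N + 1) → Polynomial k) (F : MvPolynomial (Fin (N + 1)) k) (t : k) :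
    (MvPolynomial.aeval h F).eval t = MvPolynomial.eval (fun l => (h l).eval t) F := by
  rw [MvPolynomial.aeval_def, MvPolynomial.eval₂_eq', Polynomial.eval_finsetSum, MvPolynomial.eval_eq']
  refine Finset.sum_congr rfl fun s _ => ?_
  simp [Polynomial.eval_prod]

theorem exists_eval_ne_zero {h : Fin (N + 1) → Polynomial k} (hspan : Ideal.span (Set.range h) = ⊤) (t : k) :
    ∃ j, (h j).eval t ≠ 0 := by
  by_contra hcon
  push Not at hcon
  have h1 : (1 : Polynomial k) ∈ Ideal.span (Set.range h) := hspan ▸ Submodule.mem_top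
  obtain ⟨b, hb⟩ := (Ideal.mem_span_range_iff_exists_fun).1 h1
  have h2 := congrArg (Polynomial.eval t) hb
  rw [Polynomial.eval_finsetSum, Polynomial.eval_one] at h2
  simp [hcon] at h2

/-- The polynomials of a rational curve on `V(G)`. -/
theorem exists_polys [Infinite k] (G : ∀ j : Fin m, RForm N k (a j)) (g : ProjSpace 1 k ⟶ Y G)
    (hg : g ≫ yStr G = ProjSpace.toSpec 1 k) :
    ∃ (e : ℕ) (h : Fin (N + 1) → Polynomial k) (j : Fin (N + 1))
      (hj : IsUnit (Polynomial.aeval (RatFunc.X : RatFunc k) (h j))),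
      Ideal.span (Set.range h) = ⊤ ∧ (∀ l, (h l).natDegree ≤ e) ∧ (∃ l, (h l).coeff e ≠ 0) ∧
      genP k ≫ g ≫ yι G = pt k (fun l => Polynomial.aeval (RatFunc.X : RatFunc k) (h l)) j hj ∧
      Curv2.deg k (ProjSpace 1 k) ((Scheme.Modules.pullback (g ≫ yι G)).obj (Twist.twistProjSpace N k 1)) 1 = e ∧
      ∀ l, MvPolynomial.aeval h (G l).1 = 0 := by
  have hr : (g ≫ yι G) ≫ ProjSpace.toSpec N k = ProjSpace.toSpec 1 k := by rw [Category.assoc]; exact hg
  obtain ⟨e, h, j, hj, hspan, hdeg, htop, hgen, hE⟩ := exists_poly (g ≫ yι G) hr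
  refine ⟨e, h, j, hj, hspan, hdeg, htop, hgen, hE, fun l => ?_⟩
  apply Polynomial.funext
  intro t
  rw [Polynomial.eval_zero, eval_aeval]
  obtain ⟨j', hj'⟩ := exists_eval_ne_zero hspan t
  have h1 : IsUnit (Polynomial.aeval t (h j')) := by
    rw [Polynomial.coe_aeval_eq_eval]
    exact isUnit_iff_ne_zero.2 hj'
  have h2 := pt1_comp (g ≫ yι G) hr h j hj hgen t j' h1
  have h3 := (exists_fac_iff G (fun l => Polynomial.aeval t (h l)) j' h1).mp
    ⟨pt1 k t ≫ g, by rw [Category.assoc]; exact h2⟩ l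
  exact h3

/-- If the polynomials are proportional to constants then the curve is constant. -/
theorem exists_minor {Y' : Scheme.{u}} (i' : Y' ⟶ ProjSpace N k) (g : ProjSpace 1 k ⟶ Y')
    (hr : (g ≫ i') ≫ ProjSpace.toSpec N k = ProjSpace.toSpec 1 k) (hinj : Function.Injective i')
    (hnc : ¬ ∃ y : Y', Set.range g.base ⊆ {y})
    (h : Fin (N + 1) → Polynomial k) (j : Fin (N + 1)) (hj : IsUnit (Polynomial.aeval (RatFunc.X : RatFunc k) (h j)))
    (hgen : genP k ≫ g ≫ i' = pt k (fun l => Polynomial.aeval (RatFunc.X : RatFunc k) (h l)) j hj)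
    (w : Fin (N + 1) → k) (i₀ : Fin (N + 1)) (hi₀ : IsUnit (w i₀)) :
    ∃ i j, h i * Polynomial.C (w j) ≠ h j * Polynomial.C (w i) := by
  by_contra hcon
  push Not at hcon
  have hw0 : w i₀ ≠ 0 := hi₀.ne_zero
  have hl : ∀ l, h l = Polynomial.C (w l / w i₀) * h i₀ := by
    intro l
    have h1 := hcon l i₀
    have h2 : h l = h l * Polynomial.C (w i₀) * Polynomial.C (w i₀)⁻¹ := by
      rw [mul_assoc, ← Polynomial.C_mul, mul_inv_cancel₀ hw0, Polynomial.C_1, mul_one]
    rw [h2, h1, div_eq_mul_inv, Polynomial.C_mul]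
    ring
  have hji₀ : h i₀ ≠ 0 := by
    intro h1
    rw [hl j, h1, mul_zero, map_zero] at hj
    exact not_isUnit_zero hj
  have hu : IsUnit (Polynomial.aeval (RatFunc.X : RatFunc k) (h i₀)) := isUnit_aeval_ratFunc hji₀
  have hwu : IsUnit (algebraMap k (RatFunc k) (w i₀)) := hi₀.map _
  have h3 : pt k (fun l => Polynomial.aeval (RatFunc.X : RatFunc k) (h l)) j hj =
      pt k (fun l => algebraMap k (RatFunc k) (w l)) i₀ hwu := by
    refine pt_smul k (Polynomial.aeval (RatFunc.X : RatFunc k) (h i₀) * (algebraMap k (RatFunc k) (w i₀))⁻¹)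
      (hu.mul hwu.inv) _ _ _ _ (fun l => ?_) _ _
    conv_lhs => rw [hl l]
    rw [map_mul, Polynomial.aeval_C, map_div₀]
    field_simp
  have h4 : g ≫ i' = ProjSpace.toSpec 1 k ≫ pt k w i₀ hi₀ := by
    have hs : IsSeparated (ProjSpace.toSpec N k) := by
      have : IsProper (ProjSpace.toSpec N k) := Groth.Agent.VarietyB.ProjSpaceProper.isProper_toSpec N k
      infer_instance
    refine ext_genP (ProjSpace.toSpec N k) _ _ ?_ ?_
    · rw [hr, Category.assoc, pt_toSpec]
      have h5 : Spec.map (CommRingCat.ofHom (algebraMap k k)) = 𝟙 _ := Spec.map_id _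
      rw [h5, Category.comp_id]
    · rw [hgen, h3, ← Category.assoc, genP_toSpec]
      exact (map_pt k (Algebra.ofId k (RatFunc k)) w i₀ hi₀).symm
  apply hnc
  obtain ⟨z₀⟩ : Nonempty (ProjSpace 1 k) := ⟨genericPoint _⟩
  refine ⟨g z₀, ?_⟩
  rintro _ ⟨z, rfl⟩
  apply hinj
  have h6 : ∀ z, i' (g z) = (pt k w i₀ hi₀) (closedPoint k) := by
    intro z
    rw [← Scheme.Hom.comp_apply, h4, Scheme.Hom.comp_apply]
    congr 1
    exact Subsingleton.elim (α := PrimeSpectrum k) _ _
  exact (h6 z).trans (h6 z₀).symm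

theorem eval_smul_form {d : ℕ} (F : RForm N k d) (u : k) (v : Fin (N + 1) → k) (h : MvPolynomial.eval v F.1 = 0) :
    MvPolynomial.eval (fun l => u * v l) F.1 = 0 := by
  have h1 := ev_smul_of_mem k u v d F.1 F.2
  have h2 : ∀ b : Fin (N + 1) → k, ev k b F.1 = MvPolynomial.eval b F.1 := fun b => rfl
  rw [h2, h2, h, mul_zero] at h1
  exact h1

/-- Translation. -/
theorem tup_of_eval [Infinite k] (G : ∀ j : Fin m, RForm N k (a j)) {e' : ℕ} (h : Fin (N + 1) → Polynomial k)
    (hdeg : ∀ l, (h l).natDegree ≤ e') (hG : ∀ l, MvPolynomial.aeval h (G l).1 = 0) (w : Fin (N + 1) → k)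
    (hm : ∃ i j, h i * Polynomial.C (w j) ≠ h j * Polynomial.C (w i)) {e : ℕ} (he : e' ≤ e) (u : k) (hu : u ≠ 0)
    (t : k) (ht : ∀ l, w l = u * (h l).eval t) : Tup w (fun l => (G l).1) e := by
  refine ⟨fun l => Polynomial.C u * Polynomial.taylor t (h l), fun l => ?_, fun l => ?_, ?_, fun l => ?_⟩
  · refine (Polynomial.natDegree_C_mul_le _ _).trans ?_
    rw [Polynomial.natDegree_taylor]
    exact (hdeg l).trans he
  · rw [Polynomial.eval_mul, Polynomial.eval_C, Polynomial.taylor_eval, zero_add, ht l]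
  · obtain ⟨i, j, hij⟩ := hm
    refine ⟨i, j, fun h1 => hij ?_⟩
    rw [mul_assoc, mul_assoc] at h1
    have h2 := mul_left_cancel₀ (Polynomial.C_ne_zero.2 hu) h1
    apply Polynomial.taylor_injective t
    rw [Polynomial.taylor_mul, Polynomial.taylor_mul, Polynomial.taylor_C, Polynomial.taylor_C]
    exact h2
  · apply Polynomial.funext
    intro s
    rw [Polynomial.eval_zero, eval_aeval]
    have h1 : (fun l => (Polynomial.C u * Polynomial.taylor t (h l)).eval s) = fun l => u * (h l).eval (s + t) := by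
      funext l
      rw [Polynomial.eval_mul, Polynomial.eval_C, Polynomial.taylor_eval]
    rw [h1]
    refine eval_smul_form (G l) u _ ?_
    rw [← eval_aeval, hG, Polynomial.eval_zero]

theorem eval_reflect {e' : ℕ} {p : Polynomial k} (hp : p.natDegree ≤ e') {s : k} (hs : s ≠ 0) :
    (p.reflect e').eval s = s ^ e' * p.eval s⁻¹ := by
  let _ : Invertible (s⁻¹) := invertibleOfNonzero (inv_ne_zero hs)
  have h1 := Polynomial.eval₂_reflect_mul_pow (RingHom.id k) (s⁻¹) e' p hp
  have h2 : (⅟(s⁻¹) : k) = s := by rw [invOf_eq_inv, inv_inv]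
  rw [h2] at h1
  have h3 : Polynomial.eval₂ (RingHom.id k) (s⁻¹) p = p.eval s⁻¹ := rfl
  have h4 : Polynomial.eval₂ (RingHom.id k) s (p.reflect e') = (p.reflect e').eval s := rfl
  rw [h3, h4] at h1
  rw [← h1, mul_comm (Polynomial.eval s _), ← mul_assoc, ← mul_pow, mul_inv_cancel₀ hs, one_pow, one_mul]

/-- Inversion. -/
theorem tup_of_coeff [Infinite k] (G : ∀ j : Fin m, RForm N k (a j)) {e' : ℕ} (h : Fin (N + 1) → Polynomial k)
    (hdeg : ∀ l, (h l).natDegree ≤ e') (hG : ∀ l, MvPolynomial.aeval h (G l).1 = 0) (w : Fin (N + 1) → k)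
    (hm : ∃ i j, h i * Polynomial.C (w j) ≠ h j * Polynomial.C (w i)) {e : ℕ} (he : e' ≤ e) (u : k) (hu : u ≠ 0)
    (ht : ∀ l, w l = u * (h l).coeff e') : Tup w (fun l => (G l).1) e := by
  refine ⟨fun l => Polynomial.C u * (h l).reflect e', fun l => ?_, fun l => ?_, ?_, fun l => ?_⟩
  · refine (Polynomial.natDegree_C_mul_le _ _).trans (Polynomial.natDegree_reflect_le.trans ?_)
    exact (max_le le_rfl (hdeg l)).trans he
  · rw [Polynomial.eval_mul, Polynomial.eval_C, ← Polynomial.coeff_zero_eq_eval_zero, Polynomial.coeff_reflect,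
      Polynomial.revAt_zero, ht l]
  · obtain ⟨i, j, hij⟩ := hm
    refine ⟨i, j, fun h1 => hij ?_⟩
    rw [mul_assoc, mul_assoc] at h1
    have h2 := mul_left_cancel₀ (Polynomial.C_ne_zero.2 hu) h1
    rw [mul_comm _ (Polynomial.C (w j)), mul_comm _ (Polynomial.C (w i)), ← Polynomial.reflect_C_mul,
      ← Polynomial.reflect_C_mul] at h2
    have h3 := congrArg (Polynomial.reflect e') h2
    rw [Polynomial.reflect_reflect, Polynomial.reflect_reflect] at h3
    rw [mul_comm, h3, mul_comm]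
  · have h0 : (Polynomial.X : Polynomial k) * MvPolynomial.aeval (fun l => Polynomial.C u * (h l).reflect e') (G l).1 =
        0 := by
      apply Polynomial.funext
      intro s
      rw [Polynomial.eval_zero, Polynomial.eval_mul, Polynomial.eval_X]
      rcases eq_or_ne s 0 with rfl | hs
      · rw [zero_mul]
      · rw [eval_aeval]
        have h1 : (fun l => (Polynomial.C u * (h l).reflect e').eval s) = fun l => (u * s ^ e') * (h l).eval s⁻¹ := by
          funext l
          rw [Polynomial.eval_mul, Polynomial.eval_C, eval_reflect (hdeg l) hs, mul_assoc]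
        rw [h1, eval_smul_form (G l) (u * s ^ e') _ (by rw [← eval_aeval, hG, Polynomial.eval_zero]), mul_zero]
    exact (mul_eq_zero.mp h0).resolve_left Polynomial.X_ne_zero

/-- **Tuples of polynomials from a rational curve on `V(G)`**. -/
theorem exists_tup_of_curve [IsAlgClosed k] (G : ∀ j : Fin m, RForm N k (a j)) (g : ProjSpace 1 k ⟶ Y G)
    (hgs : g ≫ yStr G = ProjSpace.toSpec 1 k) (hnc : ¬ ∃ y : Y G, Set.range g.base ⊆ {y})
    (w : Fin (N + 1) → k) (i : Fin (N + 1)) (hi : IsUnit (w i)) (z : ProjSpace 1 k)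
    (hz : (g ≫ yι G) z = (pt k w i hi) (closedPoint k)) (e : ℕ)
    (hE : Curv2.deg k (ProjSpace 1 k) ((Scheme.Modules.pullback (g ≫ yι G)).obj (Twist.twistProjSpace N k 1)) 1 ≤ e) :
    Tup w (fun l => (G l).1) e := by
  have hinf : Infinite k := IsAlgClosed.instInfinite
  obtain ⟨e', h, j, hj, hspan, hdeg, htop, hgen, hdE, hG⟩ := exists_polys G g hgs
  have he : e' ≤ e := by
    rw [hdE] at hE
    exact_mod_cast hE
  have hr : (g ≫ yι G) ≫ ProjSpace.toSpec N k = ProjSpace.toSpec 1 k := by rw [Category.assoc]; exact hgs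
  have hminor : ∃ i j, h i * Polynomial.C (w j) ≠ h j * Polynomial.C (w i) :=
    exists_minor (yι G) g hr (yι G).isClosedEmbedding.injective hnc h j hj hgen w i hi
  have hprN : IsProper (ProjSpace.toSpec N k) := Groth.Agent.VarietyB.ProjSpaceProper.isProper_toSpec N k
  have hpr1 : IsProper (ProjSpace.toSpec 1 k) := Groth.Agent.VarietyB.ProjSpaceProper.isProper_toSpec 1 k
  have hidk : Spec.map (CommRingCat.ofHom (algebraMap k k)) = 𝟙 _ := Spec.map_id _
  have hsec : pt k w i hi ≫ ProjSpace.toSpec N k = 𝟙 _ := by rw [pt_toSpec, hidk]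
  have hcl : IsClosed ({(pt k w i hi) (closedPoint k)} : Set (ProjSpace N k)) := by
    have h1 : IsClosedImmersion (pt k w i hi ≫ ProjSpace.toSpec N k) := by rw [hsec]; infer_instance
    have h2 : IsClosedImmersion (pt k w i hi) := IsClosedImmersion.of_comp _ (ProjSpace.toSpec N k)
    have h3 := (pt k w i hi).isClosedEmbedding.isClosed_range
    convert h3 using 1
    ext y
    constructor
    · rintro rfl
      exact ⟨_, rfl⟩
    · rintro ⟨y', rfl⟩
      rw [Set.mem_singleton_iff]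
      congr 1
      exact Subsingleton.elim (α := PrimeSpectrum k) _ _
  -- a closed point in the fibre
  have hJ : JacobsonSpace (ProjSpace 1 k) := LocallyOfFiniteType.jacobsonSpace (ProjSpace.toSpec 1 k)
  obtain ⟨z', hz1, hz2⟩ := nonempty_inter_closedPoints (X := ProjSpace 1 k)
    (Z := (g ≫ yι G) ⁻¹' {(pt k w i hi) (closedPoint k)}) ⟨z, hz⟩
    ((hcl.preimage (g ≫ yι G).continuous).isLocallyClosed)
  have hz2' : IsClosed ({z'} : Set (ProjSpace 1 k)) := hz2
  let ζ : Spec (CommRingCat.of k) ⟶ ProjSpace 1 k := pointOfClosedPoint (ProjSpace.toSpec 1 k) z' hz2'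
  have hζ1 : ζ ≫ ProjSpace.toSpec 1 k = 𝟙 _ := pointOfClosedPoint_comp _ _ _
  have hζ2 : ζ (closedPoint k) = z' := pointOfClosedPoint_apply _ _ _ _
  obtain ⟨c, i₁, hi₁, hc⟩ := exists_pt k ζ (by rw [hζ1, hidk])
  have heq : ζ ≫ g ≫ yι G = pt k w i hi := by
    have h1 : (⟨ζ ≫ g ≫ yι G, by rw [Category.assoc, hr, hζ1]⟩ :
        {p : Spec (.of k) ⟶ ProjSpace N k // p ≫ ProjSpace.toSpec N k = 𝟙 _}) = ⟨pt k w i hi, hsec⟩ := by
      apply (pointEquivClosedPoint (ProjSpace.toSpec N k)).injective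
      apply Subtype.ext
      change (ζ ≫ g ≫ yι G) (closedPoint k) = (pt k w i hi) (closedPoint k)
      rw [Scheme.Hom.comp_apply, hζ2]
      exact hz1
    exact congrArg Subtype.val h1
  obtain ⟨l₁, hl₁⟩ := htop
  have hval := (value e' h hdeg hspan l₁ hl₁ (g ≫ yι G) hr j hj hgen).1 (B := k)
  by_cases hc0 : c 0 = 0
  · -- the point at infinity
    have hc1 : c 1 ≠ 0 := by
      intro h1
      have h2 : c i₁ = 0 := by
        fin_cases i₁
        · exact hc0
        · exact h1
      exact hi₁.ne_zero h2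
    have hev : ∀ l, ev k c (hg e' (h l)) = (h l).coeff e' * c 1 ^ e' := by
      intro l
      obtain ⟨q, hq⟩ := exists_hg_eq (hdeg l)
      rw [hq, map_add, map_mul, map_mul, map_pow, ev_C, ev_X, ev_X, hc0, zero_mul, add_zero]
      rfl
    have hne : IsUnit (ev k c (hg e' (h l₁))) := by
      rw [hev]
      exact isUnit_iff_ne_zero.2 (mul_ne_zero hl₁ (pow_ne_zero _ hc1))
    have h1 := hval c i₁ hi₁ l₁ hne
    rw [← hc, heq] at h1
    obtain ⟨u, hu, hw⟩ := exists_smul_of_pt_eq k hne hi h1.symm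
    refine tup_of_coeff G h hdeg hG w hminor he (u * c 1 ^ e') (mul_ne_zero hu (pow_ne_zero _ hc1)) fun l => ?_
    rw [hw l, hev]
    ring
  · -- a point of the affine line
    have hev : ∀ l, ev k c (hg e' (h l)) = c 0 ^ e' * (h l).eval (c 1 / c 0) := by
      intro l
      have h1 : c = fun l => c 0 * one2 (c 1 / c 0) l := by
        funext l
        fin_cases l
        · change c 0 = c 0 * 1
          rw [mul_one]
        · change c 1 = c 0 * (c 1 / c 0)
          rw [mul_div_cancel₀ _ hc0]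
      conv_lhs => rw [h1]
      rw [ev_smul_of_mem k _ _ _ _ (hg_mem e' (h l)), ev_one2 _ (hdeg l), Polynomial.coe_aeval_eq_eval]
    obtain ⟨l₂, hl₂⟩ := exists_eval_ne_zero hspan (c 1 / c 0)
    have hne : IsUnit (ev k c (hg e' (h l₂))) := by
      rw [hev]
      exact isUnit_iff_ne_zero.2 (mul_ne_zero (pow_ne_zero _ hc0) hl₂)
    have h1 := hval c i₁ hi₁ l₂ hne
    rw [← hc, heq] at h1
    obtain ⟨u, hu, hw⟩ := exists_smul_of_pt_eq k hne hi h1.symm
    refine tup_of_eval G h hdeg hG w hminor he (u * c 0 ^ e') (mul_ne_zero hu (pow_ne_zero _ hc0)) (c 1 / c 0)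
      fun l => ?_
    rw [hw l, hev]
    ring

end Backward

end K43.TupCurve
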