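import Groth.Agent.Curves.K43.EvGood
import Groth.Agent.Curves.K43.TupCurve
import Groth.Agent.Biell.K856.Main3

/-!
# Rational curves through points of curves of negative canonical degree: reduction to positive characteristic

`Stmt k`: the statement of Mori's theorem (degree of `f^*Ω` negative, `X` smooth along the curve) over `k`.
`main`: if it holds over all algebraically closed fields of positive characteristic, it holds over all algebraically
closed fields of characteristic zero.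
-/

set_option autoImplicit false
universe u
open CategoryTheory CategoryTheory.Limits AlgebraicGeometry Opposite Topology IsLocalRing

namespace K43.MoriZero

open K890.Spread K890.Model K890.Generic K43.FamData K43.FibPt K43.EvGood K43.TupSpread K43.TupCurve K43.PtBC
open Groth.Agent.Lefpen.H872.RelCI Groth.Agent.Lefpen.H872.RelBase K329.Pt

/-- Mori's theorem over `k`. -/
def Stmt (k : Type u) [Field k] [IsAlgClosed k] : Prop :=
  ∀ (X : Scheme.{u}) [X.Over (Spec (CommRingCat.of k))] [IsIntegral X]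
    (N : ℕ) (ι : X ⟶ CohB1.ProjSpace N k) [IsClosedImmersion ι]
    (_ : ι ≫ CohB1.ProjSpace.toSpec N k = X ↘ Spec (CommRingCat.of k))
    (n : ℕ) (_ : topologicalKrullDim X = n)
    (C : Scheme.{u}) [C.Over (Spec (CommRingCat.of k))]
    (_ : Curve.IsSmoothProperCurve k C (C ↘ Spec (CommRingCat.of k)))
    (f : C ⟶ X) (_ : f ≫ (X ↘ Spec (CommRingCat.of k)) = C ↘ Spec (CommRingCat.of k))
    (U : X.Opens) (_ : Set.range f.base ⊆ (U : Set X))
    (_ : Smooth (U.ι ≫ (X ↘ Spec (CommRingCat.of k))))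
    (_ : Curv2.deg k C ((Scheme.Modules.pullback f).obj (Omega.sheaf (X ↘ Spec (CommRingCat.of k)))) n < 0)
    (c : C) (_ : IsClosed ({c} : Set C)),
    ∃ g : CohB1.ProjSpace 1 k ⟶ X, g ≫ (X ↘ Spec (CommRingCat.of k)) = CohB1.ProjSpace.toSpec 1 k ∧
      (¬ ∃ x : X, Set.range g.base ⊆ {x}) ∧ f.base c ∈ Set.range g.base ∧
      Curv2.deg k (CohB1.ProjSpace 1 k)
          ((Scheme.Modules.pullback (g ≫ ι)).obj (Twist.twistProjSpace N k 1)) 1 *
        (- Curv2.deg k C ((Scheme.Modules.pullback f).obj (Omega.sheaf (X ↘ Spec (CommRingCat.of k)))) n) ≤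
      2 * n * Curv2.deg k C ((Scheme.Modules.pullback (f ≫ ι)).obj (Twist.twistProjSpace N k 1)) 1

/-- A rational point of a separated scheme is closed. -/
theorem isClosed_point {k : Type u} [Field k] {Z : Scheme.{u}} (s : Z ⟶ Spec (CommRingCat.of k)) [IsSeparated s]
    (x : Spec (CommRingCat.of k) ⟶ Z) (hx : x ≫ s = 𝟙 _) : IsClosed ({x (closedPoint k)} : Set Z) := by
  have h1 : IsClosedImmersion (x ≫ s) := by rw [hx]; infer_instance
  have h2 : IsClosedImmersion x := IsClosedImmersion.of_comp _ s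
  have h3 := x.isClosedEmbedding.isClosed_range
  convert h3 using 1
  ext y
  constructor
  · rintro rfl
    exact ⟨_, rfl⟩
  · rintro ⟨y', rfl⟩
    rw [Set.mem_singleton_iff]
    congr 1
    exact Subsingleton.elim (α := PrimeSpectrum k) _ _

/-- The contradiction over one field of positive characteristic. -/
theorem step {k : Type u} [Field k] {N : ℕ} {X C : Scheme.{u}} {sX : X ⟶ Spec (CommRingCat.of k)}
    {ι : X ⟶ CohB1.ProjSpace N k} [C.Over (Spec (CommRingCat.of k))] {S : Subalgebra ℤ k}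
    {D : Dt sX ι (C ↘ Spec (CommRingCat.of k)) S} {f : C ⟶ X} {x : Spec (CommRingCat.of k) ⟶ C}
    (M : Mf D f) (P : Mx D x) (n : ℕ) {κ : Type u} [Field κ] [IsAlgClosed κ] (hst : Stmt κ) (φ : S →+* κ)
    (hG : Good M n κ φ) (b : Fin (N + 1) → S) (i : Fin (N + 1)) (hi : IsUnit (b i))
    (hb : x ≫ f ≫ ι = rpt (RingHom.id k) (fun l => S.val.toRingHom (b l)) i (hi.map _))
    (hK : Curv2.deg k C ((Scheme.Modules.pullback f).obj (Omega.sheaf sX)) n < 0) :
    ∃ e : ℕ, Tup (fun l => φ (b l)) (fun l => MvPolynomial.map φ (D.G l).1) e ∧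
      (e : ℤ) * (- Curv2.deg k C ((Scheme.Modules.pullback f).obj (Omega.sheaf sX)) n) ≤
        2 * n * Curv2.deg k C ((Scheme.Modules.pullback (f ≫ ι)).obj (Twist.twistProjSpace N k 1)) 1 := by
  let _ : (Y (D.mG φ)).Over (Spec (CommRingCat.of κ)) := ⟨yStr (D.mG φ)⟩
  let _ : (pullback D.c₀ (sp φ)).Over (Spec (CommRingCat.of κ)) := ⟨pullback.snd D.c₀ (sp φ)⟩
  have hint := hG.intX
  obtain ⟨U', hU', hUs'⟩ := hG.smooth
  have hsm : Smooth (pullback.snd D.c₀ (sp φ)) := MorphismProperty.pullback_snd (P := @Smooth) _ _ inferInstance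
  have hC' : Curve.IsSmoothProperCurve κ (pullback D.c₀ (sp φ))
      (pullback D.c₀ (sp φ) ↘ Spec (CommRingCat.of κ)) :=
    ⟨inferInstanceAs (IsProper (pullback.snd D.c₀ (sp φ))), hsm, hG.intC, hG.dimC⟩
  obtain ⟨g, hg1, hg2, ⟨z, hz⟩, hg3⟩ := hst (Y (D.mG φ)) N (yι (D.mG φ)) rfl n hG.dimX (pullback D.c₀ (sp φ)) hC'
    (fT M φ) (fT_yStr M φ) U' (by rintro _ ⟨z, rfl⟩; exact hU' z) hUs' (by
      have := hG.omega
      exact lt_of_eq_of_lt this hK) (cT P φ (closedPoint κ))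
    (isClosed_point (pullback.snd D.c₀ (sp φ)) (cT P φ) (cT_snd P φ))
  have hpt := cT_fT M P b i hi hb φ
  have hinf : Infinite κ := IsAlgClosed.instInfinite
  obtain ⟨e, -, -, -, -, -, -, -, hdE, -⟩ := exists_polys (D.mG φ) g hg1
  refine ⟨e, ?_, ?_⟩
  · refine exists_tup_of_curve (D.mG φ) g hg1 hg2 (fun l => φ (b l)) i (hi.map φ) z ?_ e hdE.le
    have h1 : yι (D.mG φ) (g z) = (cT P φ ≫ fT M φ ≫ yι (D.mG φ)) (closedPoint κ) := by
      rw [Scheme.Hom.comp_apply, Scheme.Hom.comp_apply]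
      exact congrArg _ hz
    rw [Scheme.Hom.comp_apply, h1, hpt]
    rfl
  · have h1 := hG.omega
    have h2 := hG.deg
    rw [hdE] at hg3
    rw [← h1, ← h2]
    exact hg3

theorem main (hp : ∀ (p : ℕ) [Fact p.Prime] (k : Type u) [Field k] [IsAlgClosed k] [CharP k p], Stmt k)
    (k : Type u) [Field k] [IsAlgClosed k] [CharZero k] : Stmt k := by
  intro X _ _ N ι _ hι n hn C _ hC f hf U hU hUs hK c hc
  classical
  obtain ⟨hCp, hCs, hCi, hCd⟩ := hC
  have hPS : IsProper (CohB1.ProjSpace.toSpec N k) := Groth.Agent.Ega3B.ProjProper.isProper_toSpec N k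
  have hXp : IsProper (X ↘ Spec (CommRingCat.of k)) := by rw [← hι]; infer_instance
  have hinf : Infinite k := IsAlgClosed.instInfinite
  let sX := X ↘ Spec (CommRingCat.of k)
  let sC := C ↘ Spec (CommRingCat.of k)
  let x : Spec (CommRingCat.of k) ⟶ C := pointOfClosedPoint sC c hc
  have hx1 : x ≫ sC = 𝟙 _ := pointOfClosedPoint_comp _ _ _
  have hx2 : x (closedPoint k) = c := pointOfClosedPoint_apply _ _ _ _
  have hidk : Spec.map (CommRingCat.ofHom (algebraMap k k)) = 𝟙 _ := Spec.map_id _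
  obtain ⟨v₀, i, hi₀, hv₀⟩ := exists_pt k (x ≫ f ≫ ι) (by
    rw [hidk, Category.assoc, Category.assoc, hι, hf]; exact hx1)
  -- normalized coordinates
  let v : Fin (N + 1) → k := fun l => (v₀ i)⁻¹ * v₀ l
  have hvi : v i = 1 := inv_mul_cancel₀ hi₀.ne_zero
  have hiv : IsUnit (v i) := by rw [hvi]; exact isUnit_one
  have hv : x ≫ f ≫ ι = pt k v i hiv := by
    rw [hv₀]
    exact (pt_smul k (v₀ i)⁻¹ hi₀.inv v₀ i hi₀ v (fun _ => rfl) i hiv).symm
  obtain ⟨L, hL⟩ := K856.Main3.exists_ample_of_curve k C ⟨hCp, hCs, hCi, hCd⟩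
  obtain ⟨S₁, hS₁, hF, ⟨D₁⟩⟩ := exists_dt (sX := sX) (sC := sC) ι hι hL (Finset.univ.image v)
  obtain ⟨S₂, h12, hS₂, ⟨M₂⟩⟩ := exists_mf (f := f) D₁ hS₁ hf
  obtain ⟨S, h23, hS, ⟨P⟩⟩ := exists_mx (x := x) (D₁.up h12) hS₂ hx1
  let D : Dt sX ι sC S := (D₁.up h12).up h23
  let M : Mf D f := M₂.up hf h23
  have hvS : ∀ l, v l ∈ S := fun l => h23 (h12 (hF (by
    rw [Finset.coe_image]; exact ⟨l, Finset.mem_coe.2 (Finset.mem_univ l), rfl⟩)))
  let b : Fin (N + 1) → S := fun l => ⟨v l, hvS l⟩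
  have hbi : b i = 1 := Subtype.ext hvi
  have hib : IsUnit (b i) := by rw [hbi]; exact isUnit_one
  have hb : x ≫ f ≫ ι = rpt (RingHom.id k) (fun l => S.val.toRingHom (b l)) i (hib.map _) := hv
  set A : ℤ := - Curv2.deg k C ((Scheme.Modules.pullback f).obj (Omega.sheaf sX)) n with hA
  set B : ℤ := 2 * n * Curv2.deg k C ((Scheme.Modules.pullback (f ≫ ι)).obj (Twist.twistProjSpace N k 1)) 1 with hB
  have hApos : 0 < A := neg_pos.2 hK
  let e : ℕ := (B / A).toNat
  by_cases hT : 0 ≤ B ∧ Tup v (fun l => MvPolynomial.map S.val.toRingHom (D.G l).1) e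
  · obtain ⟨hB0, hT⟩ := hT
    obtain ⟨g, h1, h2, h3, h4⟩ := exists_curve_of_tup sX ι hι (fun j => mapForm S.val.toRingHom (D.G j)) D.hk v i hiv
      e hT
    refine ⟨g, h1, h2, ?_, ?_⟩
    · refine ⟨K329.P1Gen.pt1 k (0 : k) (closedPoint k), ?_⟩
      apply ι.isClosedEmbedding.injective
      have h5 := congrArg (fun q : Spec (CommRingCat.of k) ⟶ CohB1.ProjSpace N k => q (closedPoint k)) (h3.trans hv.symm)
      simp only [Scheme.Hom.comp_apply, hx2] at h5
      exact h5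
    · have h5 : (e : ℤ) = B / A := Int.toNat_of_nonneg (Int.ediv_nonneg hB0 hApos.le)
      refine (mul_le_mul_of_nonneg_right h4 hApos.le).trans ?_
      rw [h5]
      exact Int.ediv_mul_le _ hApos.ne'
  · exfalso
    have hgood := ev_good M hS hf n hn hCd U (fun z => hU ⟨z, rfl⟩) hUs
    have hev : Ev S (OnField fun κ _ φ => 0 ≤ B → ¬ Tup (fun l => φ (b l))
        (fun l => MvPolynomial.map φ (D.G l).1) e) := by
      by_cases hB0 : 0 ≤ B
      · have h1 := ev_not_tup hS b (fun l => (D.G l).1) e (fun h => hT ⟨hB0, h⟩)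
        exact h1.mono fun T _ φ h κ _ e' _ => h κ e'
      · exact Ev.of_forall hS fun T _ φ κ _ _ h => absurd h hB0
    obtain ⟨p, hpp, κ, _, _, _, φ, -, -, -, ⟨h1, h2⟩, -⟩ := (hgood.and hev).exists_algClosed_point 0
    have h3 := h1.apply
    have h4 := h2.apply
    obtain ⟨e', h5, h6⟩ := step M P n (hp p κ) φ (h3 inferInstance) b i hib hb hK
    have hB0 : 0 ≤ B := le_trans (mul_nonneg (Int.natCast_nonneg e') hApos.le) h6
    refine h4 hB0 ?_
    have h7 : (e' : ℤ) ≤ B / A := Int.le_ediv_of_mul_le hApos h6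
    have h8 : e' ≤ e := by
      have h9 := Int.toNat_le_toNat h7
      rwa [Int.toNat_natCast] at h9
    obtain ⟨h, ha, hb', hc', hd'⟩ := h5
    exact ⟨h, fun i => (ha i).trans h8, hb', hc', hd'⟩

end K43.MoriZero
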