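import Groth.Agent.Vanish.K909.Kleiman
import Groth.Agent.Vanish.K909.NefIff

/-!
# Cutting down by an ample class away from a closed subset

* `exists_sec`: a section of a power of an ample module cutting the support of a coherent module and a given closed subset.
* `exists_cut`: the corresponding relation between intersection numbers.
* `exists_curve_module`: iterated, down to dimension one.
* `exists_pos_of_integral`: an additive function which is positive on all integral closed subschemes of top dimension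
  contained in the support.
-/

set_option autoImplicit false
universe u
open CategoryTheory CategoryTheory.Limits AlgebraicGeometry TopologicalSpace

namespace K43.NefCut

open Groth.Agent Groth.Agent.Pic13.H970.IntForm Groth.Agent.Fga.PicMon Groth.Agent.Fga.AltSum
  Groth.Agent.Grpsch.PicGrp Groth.Agent.Fga.RegSec Groth.Agent.Fga.IntAdd Groth.Agent.Fga.DimCut
  K909.InterML K909.Kleiman K909.RootArg

theorem dim_diff_le {Y : Type*} [TopologicalSpace Y] [NoetherianSpace Y] (T : Set Y) (W : Set Y)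
    (hW : IsOpen W) (r : ℕ) (hr : topologicalKrullDim T ≤ ((r + 1 : ℕ) : WithBot ℕ∞))
    (hmeet : ∀ Z ∈ irreducibleComponents T, ∃ z ∈ Z, (z : Y) ∈ W) : topologicalKrullDim (T \ W : Set Y) ≤ r := by
  let D : Set T := Subtype.val ⁻¹' Wᶜ
  have hD : IsClosed D := hW.isClosed_compl.preimage continuous_subtype_val
  have h1 := dim_le_of_forall_not_subset D hD (fun Z hZ hsub => by
    obtain ⟨z, hz, hzW⟩ := hmeet Z hZ
    exact hsub hz hzW) r hr
  refine le_trans ?_ h1
  let g : (T \ W : Set Y) → D := fun x => ⟨⟨x.1, x.2.1⟩, x.2.2⟩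
  have hg : Topology.IsInducing g := by
    apply Topology.IsInducing.of_comp (g := fun y : D => (y.1.1 : Y))
      (by fun_prop) (by fun_prop)
    exact Topology.IsInducing.subtypeVal
  exact hg.topologicalKrullDim_le

section cut

variable (k : Type u) [Field k] (X : Scheme.{u}) [X.Over (Spec (CommRingCat.of k))]
  [IsProper (X ↘ Spec (CommRingCat.of k))]

include k in
theorem exists_sec (L : X.Modules) (hL : CohB1.IsAmple L) (F : X.Modules) (hF : Coh.IsCoh F) (r : ℕ)
    (hr : topologicalKrullDim (CohB1.support F) = ((r + 1 : ℕ) : WithBot ℕ∞)) (Zc : Set X)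
    (hZc : IsClosed Zc) (r' : ℕ) (hZ : topologicalKrullDim (CohB1.support F ∩ Zc : Set X) ≤ ((r' + 1 : ℕ) : WithBot ℕ∞)) :
    ∃ (n : ℕ) (s : Coh.structureModule X ⟶ CohB1.tensorPow L (n + 1)), Mono (mulS s F) ∧
      topologicalKrullDim (CohB1.support (cokernel (mulS s F))) = r ∧
      topologicalKrullDim (CohB1.support (cokernel (mulS s F)) ∩ Zc : Set X) ≤ r' := by
  have := Fga.HypSec.isNoetherian k X
  have := Fga.HypSec.isSeparated k X
  set T : Set X := CohB1.support F with hTdef
  have hT : IsClosed T := S0020.result X F hF.2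
  let T' : Set X := T ∩ Zc
  have hcomp : (irreducibleComponents T).Finite := NoetherianSpace.finite_irreducibleComponents
  have hfc : Finite (irreducibleComponents T) := hcomp
  have hch : ∀ Z : irreducibleComponents T, ∃ z : T, z ∈ Z.1 := fun Z => Z.2.1.nonempty
  choose z hz using hch
  have hcomp' : (irreducibleComponents T').Finite := NoetherianSpace.finite_irreducibleComponents
  have hfc' : Finite (irreducibleComponents T') := hcomp'
  have hch' : ∀ Z : irreducibleComponents T', ∃ z : T', z ∈ Z.1 := fun Z => Z.2.1.nonempty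
  choose z' hz' using hch'
  obtain ⟨n, s, hZ', -, haff⟩ := S2324.result X L hL ((AssSch.Ass F ∪ Set.range fun Z => (z Z : X)) ∪
      Set.range fun Z => (z' Z : X))
    (((Fdesc.SubFilt.finite_ass hF).union (Set.finite_range _)).union (Set.finite_range _)) ⊤ (fun _ _ => trivial)
  have hN : PicF.IsInvertible (CohB1.tensorPow L (n + 1)) := Fdesc.LocGen.isInvertible_tensorPow hL.1 _
  have hNF : Coh.IsCoh (CohB1.tensorMod (CohB1.tensorPow L (n + 1)) F) :=
    Sga67.CohBasic.isCoh_of_iso (Ega2.Tens.swap F _) (Fga.TwistCoh.isCoh_tensor hF hN)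
  refine ⟨n, s, mulS_mono s F hF ?_ (fun x hx => hZ' (Or.inl (Or.inl hx))), ?_, ?_⟩
  · exact (Sga67.CohBasic.isCoh_kernel _ hF hNF.1).1
  · rw [support_cokernel_mulS s F hN hF.2]
    refine dim_cut k X T hT r hr (CohB1.genLocus _ s) haff ?_ ?_
    · intro x hx
      obtain ⟨U, hxU, e, a, -, -, h, -⟩ := exists_gen_of_not_mem s hN hx
      exact ⟨U, hxU, a, h⟩
    · intro Z hZ''
      exact ⟨z ⟨Z, hZ''⟩, hz ⟨Z, hZ''⟩, hZ' (Or.inl (Or.inr ⟨⟨Z, hZ''⟩, rfl⟩))⟩
  · rw [support_cokernel_mulS s F hN hF.2]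
    have h1 := dim_diff_le T' (CohB1.genLocus _ s) (CohB1.genLocus _ s).isOpen r' hZ (fun Z hZ'' =>
      ⟨z' ⟨Z, hZ''⟩, hz' ⟨Z, hZ''⟩, hZ' (Or.inr ⟨⟨Z, hZ''⟩, rfl⟩)⟩)
    have h2 : (T \ (CohB1.genLocus _ s : Set X)) ∩ Zc = T' \ (CohB1.genLocus _ s : Set X) := by
      ext x
      constructor
      · rintro ⟨⟨ha, hb⟩, hc⟩; exact ⟨⟨ha, hc⟩, hb⟩
      · rintro ⟨⟨ha, hc⟩, hb⟩; exact ⟨⟨ha, hb⟩, hc⟩
    rw [h2]
    exact h1

variable (d : ℕ) (hd : topologicalKrullDim X ≤ d) (F : X.Modules) (hF : Coh.IsCoh F)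

include hd hF

/-- Cutting by an ample class, controlling a closed subset. -/
theorem exists_cut (L : X.Modules) (hL : CohB1.IsAmple L) {r : ℕ}
    (hr : topologicalKrullDim (CohB1.support F) = (r + 1 : ℕ)) (Zc : Set X) (hZc : IsClosed Zc) (r' : ℕ)
    (hZ : topologicalKrullDim (CohB1.support F ∩ Zc : Set X) ≤ ((r' + 1 : ℕ) : WithBot ℕ∞)) :
    ∃ (n : ℕ) (G : X.Modules), Coh.IsCoh G ∧ topologicalKrullDim (CohB1.support G) = r ∧
      topologicalKrullDim (CohB1.support G ∩ Zc : Set X) ≤ r' ∧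
      ∀ c : Fin r → Pic X, ((n : ℤ) + 1) * inter k X d F (Fin.cons (mk L hL.1) c : Fin (r + 1) → Pic X) =
        inter k X d G c := by
  have := Fga.IntAdd.isNoetherian k X
  obtain ⟨n, s, hmono, hdim, hdim'⟩ := exists_sec k X L hL F hF r hr Zc hZc r' hZ
  have hN : PicF.IsInvertible (CohB1.tensorPow L (n + 1)) := Fdesc.LocGen.isInvertible_tensorPow hL.1 _
  have hP : PicF.IsInvertible (CohB1.tensorPow (dual L) (n + 1)) :=
    Fdesc.LocGen.isInvertible_tensorPow (isInvertible_dual hL.1) _
  have hmul : mk L hL.1 * mk (dual L) (isInvertible_dual hL.1) = 1 := by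
    rw [← inv_mk hL.1, mul_inv_cancel]
  have hPN' : mk (CohB1.tensorPow (dual L) (n + 1)) hP * mk (CohB1.tensorPow L (n + 1)) hN = 1 := by
    rw [mk_tensorPow (isInvertible_dual hL.1), mk_tensorPow hL.1, ← mul_pow, mul_comm, hmul, one_pow]
  have hPN : mc (CohB1.tensorPow (dual L) (n + 1)) * mc (CohB1.tensorPow L (n + 1)) = 1 := by
    have := congrArg (toMC X) hPN'
    rwa [map_mul, map_one] at this
  have hPcl : mk (CohB1.tensorPow (dual L) (n + 1)) hP = ((mk L hL.1)⁻¹) ^ (n + 1) := by
    rw [mk_tensorPow (isInvertible_dual hL.1)]; rfl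
  generalize hNdef : CohB1.tensorPow L (n + 1) = N at *
  generalize hPdef : CohB1.tensorPow (dual L) (n + 1) = P at *
  have hNF : Coh.IsCoh (CohB1.tensorMod N F) :=
    Sga67.CohBasic.isCoh_of_iso (Ega2.Tens.swap F _) (Fga.TwistCoh.isCoh_tensor hF hN)
  have hC : Coh.IsCoh (cokernel (mulS s F)) := Sga67.CohBasic.isCoh_cokernel _ hF.1 hNF
  have hS : (ShortComplex.mk (mulS s F) (cokernel.π (mulS s F)) (cokernel.condition _)).ShortExact :=
    { exact := ShortComplex.exact_cokernel _
      mono_f := hmono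
      epi_g := inferInstanceAs (Epi (cokernel.π (mulS s F))) }
  refine ⟨n, CohB1.tensorMod P (cokernel (mulS s F)),
    Sga67.CohBasic.isCoh_of_iso (Ega2.Tens.swap _ _) (Fga.TwistCoh.isCoh_tensor hC hP),
    by rw [Fga.PosMain.support_tensor X hP hN hPN, hdim],
    by rw [Fga.PosMain.support_tensor X hP hN hPN]; exact hdim', fun c => ?_⟩
  have hadd := isAdd_tensor X (isAdd_inter k X d hd c) hP _ hS hF hNF hC
  have hiso : inter k X d (CohB1.tensorMod P (CohB1.tensorMod N F)) c = inter k X d F c := by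
    obtain ⟨e⟩ := (mc_eq_iff (CohB1.tensorMod P (CohB1.tensorMod N F)) F).mp (by
      rw [mc_tensor, mc_tensor, ← mul_assoc, hPN, one_mul])
    exact inter_iso k X d _ e c
  simp only at hadd
  rw [hiso] at hadd
  have h1 := I_cons_mk k X d F hP (fun i => (c i)⁻¹)
  have h2 : I k X d F (Fin.cons ((mk L hL.1)⁻¹ ^ (n + 1)) (fun i => (c i)⁻¹) : Fin (r + 1) → Pic X) =
      inter k X d (CohB1.tensorMod P (cokernel (mulS s F))) c := by
    rw [← hPcl, h1]
    change inter k X d F c - inter k X d (CohB1.tensorMod P F) c = _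
    rw [hadd]
    ring
  rw [← h2, I_cons_pow k X d hd F hF _ _ _ (le_of_eq hr), inter_cons]
  push_cast
  ring

/-- Iterated cut down to dimension one: intersection numbers with `a · h^r` become degrees. -/
theorem exists_curve_module (L : X.Modules) (hL : CohB1.IsAmple L) (r : ℕ)
    (hr : topologicalKrullDim (CohB1.support F) = (r + 1 : ℕ)) (Zc : Set X) (hZc : IsClosed Zc)
    (hZ : topologicalKrullDim (CohB1.support F ∩ Zc : Set X) ≤ r) :
    ∃ (n : ℕ) (G : X.Modules), 0 < n ∧ Coh.IsCoh G ∧ topologicalKrullDim (CohB1.support G) = (1 : ℕ) ∧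
      topologicalKrullDim (CohB1.support G ∩ Zc : Set X) ≤ (0 : ℕ) ∧
      ∀ a : Pic X, (n : ℤ) * inter k X d F (Fin.cons a (fun _ : Fin r => mk L hL.1) : Fin (r + 1) → Pic X) =
        inter k X d G (fun _ : Fin 1 => a) := by
  induction r generalizing F with
  | zero =>
    refine ⟨1, F, one_pos, hF, hr, hZ, fun a => ?_⟩
    rw [Nat.cast_one, one_mul]
    congr 1
    funext i
    cases i using Fin.cases with
    | zero => rfl
    | succ i => exact i.elim0
  | succ r ih =>
    obtain ⟨n, G, hG, hGd, hGZ, hcut⟩ := exists_cut k X d hd F hF L hL hr Zc hZc r hZ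
    obtain ⟨m, G', hm, hG', hGd', hGZ', hcut'⟩ := ih G hG hGd hGZ
    refine ⟨m * (n + 1), G', Nat.mul_pos hm (Nat.succ_pos n), hG', hGd', hGZ', fun a => ?_⟩
    have e : (Fin.cons a (fun _ : Fin (r + 1) => mk L hL.1) : Fin (r + 2) → Pic X) =
        Fin.cons a (Fin.cons (mk L hL.1) (fun _ : Fin r => mk L hL.1) : Fin (r + 1) → Pic X) := by
      rw [cons_const]
    rw [e, inter_swap01]
    have h1 := hcut (Fin.cons a (fun _ : Fin r => mk L hL.1) : Fin (r + 1) → Pic X)
    rw [← hcut' a, ← h1]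
    push_cast
    ring

end cut

section dev

variable {X : Scheme.{u}}

/-- If `φ F ≥ 0` and `ψ F ≠ 0` for two additive functions vanishing in dimension `< r`, then `φ(O_Z) ≥ 0` for some
integral closed subscheme `Z` of dimension `r` contained in the support of `F`. -/
theorem exists_nonneg [IsNoetherian X] (φ ψ : X.Modules → ℤ) (hφ : Fga.ChiBasic.IsAdd φ) (hψ : Fga.ChiBasic.IsAdd ψ)
    (r : ℕ)
    (hvan : ∀ F : X.Modules, Coh.IsCoh F → topologicalKrullDim (CohB1.support F) < r → φ F = 0)
    (hvan' : ∀ F : X.Modules, Coh.IsCoh F → topologicalKrullDim (CohB1.support F) < r → ψ F = 0)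
    (F : X.Modules) (hF : Coh.IsCoh F) (hr : topologicalKrullDim (CohB1.support F) ≤ r) (h0 : 0 ≤ φ F)
    (h1 : ψ F ≠ 0) :
    ∃ (Z : Scheme.{u}) (i : Z ⟶ X), IsClosedImmersion i ∧ IsIntegral Z ∧ topologicalKrullDim Z = r ∧
      Set.range i ⊆ CohB1.support F ∧ 0 ≤ φ (OZ i) := by
  classical
  have hTc := Ega3B.Devissage.isClosed_support hF
  choose Z i hi hZ hgen hrange using fun y : X => Fga.IntegralSub.exists_integral_closed y
  have hfin := K909.DevNonneg.finite_top (CohB1.support F) hTc r hr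
  have key := fun (χ : X.Modules → ℤ) (hχ : Fga.ChiBasic.IsAdd χ)
      (hv : ∀ F : X.Modules, Coh.IsCoh F → topologicalKrullDim (CohB1.support F) < r → χ F = 0) =>
    K909.DevNonneg.length_sum χ hχ r hv (CohB1.support F) hTc hr hfin.toFinset (fun y => by simp)
    (fun y => (Coh.push (i y)).obj (Coh.structureModule (Z y)))
    (fun y _ => by
      have := hi y
      exact CycB.ClosSheaf.isCoh_push_structureModule (i y))
    (fun y _ => by
      have := hi y
      rw [← hrange y]
      exact CohqB.DevSimple.support_push_subset_range (i y) _)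
    (fun y _ => by
      have := hi y
      have := hZ y
      have hne : Nonempty ((⊤ : (Z y).Opens) : Scheme.{u}) := ⟨⟨genericPoint (Z y), trivial⟩⟩
      have h := CohqB.DevSimple.isSimpleModule_stalk_push (i y) (Coh.structureModule (Z y)) ⊤
        ⟨Scheme.Modules.restrictUnitIso _⟩
      rw [hgen y] at h
      exact h) F hF subset_rfl
  have hφF := (key φ hφ hvan).2
  have hψF := (key ψ hψ hvan').2
  by_contra hcon
  have hneg : ∀ y ∈ hfin.toFinset, φ ((Coh.push (i y)).obj (Coh.structureModule (Z y))) < 0 := by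
    intro y hy
    by_contra hge
    push Not at hge
    have hy' := (Set.Finite.mem_toFinset _).mp hy
    have hi' := hi y
    have hZ' := hZ y
    refine hcon ⟨Z y, i y, hi', hZ', ?_, ?_, hge⟩
    · rw [← hy'.2, ← hrange y]
      exact IsHomeomorph.topologicalKrullDim_eq _ (i y).isClosedEmbedding.isEmbedding.toHomeomorph.isHomeomorph
    · rw [hrange y]
      exact closure_minimal (Set.singleton_subset_iff.mpr hy'.1) hTc
  obtain ⟨y, hy, hy1⟩ := Finset.exists_ne_zero_of_sum_ne_zero (hψF ▸ h1)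
  have hly : 0 < ((Fga.MultForm.len F y).toNat : ℤ) := by
    rcases Nat.eq_zero_or_pos (Fga.MultForm.len F y).toNat with h | h
    · rw [h] at hy1; simp at hy1
    · exact_mod_cast h
  have hlt : φ F < 0 := by
    rw [hφF]
    refine Finset.sum_neg' (fun z hz => ?_) ⟨y, hy, ?_⟩
    · exact mul_nonpos_of_nonneg_of_nonpos (Int.natCast_nonneg _) (hneg z hz).le
    · exact mul_neg_of_pos_of_neg hly (hneg y hy)
  exact absurd h0 (not_le.mpr hlt)

end dev

end K43.NefCut

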