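import Groth.Agent.Curves.K43.NefMori
import Groth.Agent.DelIll.K890.Polarized
import Groth.Agent.ArSurf.K482.CanonTool
import Groth.Agent.Surf.K455.RelDim
import Groth.Agent.Dual.H339.OmegaRank
import Groth.Agent.S7638
import Groth.Agent.S16504

/-!
# Smooth projective varieties with nef anticanonical class
-/

set_option autoImplicit false
universe u
open CategoryTheory CategoryTheory.Limits AlgebraicGeometry TopologicalSpace

namespace K43.NefFinal

open Groth.Agent Groth.Agent.Fga.PicMon Groth.Agent.Grpsch.PicGrp Groth.Agent.Pic13.H970.IntForm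
  K909.InterML K909.Kleiman K909.RootArg K432.CurveDeg K43.NefMori

/-- If a morphism sends closed points into a closed subset, it factors through it (topologically). -/
theorem range_subset_of_closed {k : Type u} [Field k] {C X : Scheme.{u}} (s : C ⟶ Spec (CommRingCat.of k))
    [LocallyOfFiniteType s] (f : C ⟶ X) (Z : Set X) (hZ : IsClosed Z)
    (h : ∀ c : C, IsClosed ({c} : Set C) → f c ∈ Z) : Set.range f ⊆ Z := by
  have hJ : JacobsonSpace C := LocallyOfFiniteType.jacobsonSpace s
  have h1 : IsClosed (f ⁻¹' Z) := hZ.preimage f.continuous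
  have h2 : closedPoints C ⊆ f ⁻¹' Z := fun c hc => h c hc
  have h3 : (f ⁻¹' Z) = Set.univ := by
    rw [Set.eq_univ_iff_forall]
    intro x
    have := closure_minimal h2 h1
    rw [closure_closedPoints] at this
    exact this trivial
  rintro _ ⟨x, rfl⟩
  have : x ∈ f ⁻¹' Z := by rw [h3]; trivial
  exact this

theorem main
    (k : Type u) [Field k] [IsAlgClosed k] (hst : K43.MoriZero.Stmt k)
    (X : Scheme.{u}) [X.Over (Spec (CommRingCat.of k))] [IsIntegral X] [Smooth (X ↘ Spec (CommRingCat.of k))]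
    (hX : ∃ (N : ℕ) (ι : X ⟶ CohB1.ProjSpace N k), IsClosedImmersion ι ∧
      ι ≫ CohB1.ProjSpace.toSpec N k = X ↘ Spec (CommRingCat.of k))
    (n : ℕ) (hn : topologicalKrullDim X = n)
    (hnef : ∀ (C : Scheme.{u}) [C.Over (Spec (CommRingCat.of k))],
      Curve.IsSmoothProperCurve k C (C ↘ Spec (CommRingCat.of k)) →
      ∀ f : C ⟶ X, f ≫ (X ↘ Spec (CommRingCat.of k)) = C ↘ Spec (CommRingCat.of k) →
        Curv2.deg k C ((Scheme.Modules.pullback f).obj (Omega.sheaf (X ↘ Spec (CommRingCat.of k)))) n ≤ 0) :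
    (∀ (C : Scheme.{u}) [C.Over (Spec (CommRingCat.of k))],
      Curve.IsSmoothProperCurve k C (C ↘ Spec (CommRingCat.of k)) →
      ∀ f : C ⟶ X, f ≫ (X ↘ Spec (CommRingCat.of k)) = C ↘ Spec (CommRingCat.of k) →
        Curv2.deg k C ((Scheme.Modules.pullback f).obj (Omega.sheaf (X ↘ Spec (CommRingCat.of k)))) n = 0) ∨
    (∀ x : X, IsClosed ({x} : Set X) → ∃ g : CohB1.ProjSpace 1 k ⟶ X,
      g ≫ (X ↘ Spec (CommRingCat.of k)) = CohB1.ProjSpace.toSpec 1 k ∧
      (¬ ∃ y : X, Set.range g.base ⊆ {y}) ∧ x ∈ Set.range g.base) := by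
  classical
  obtain ⟨M, ι, hιc, hι⟩ := hX
  have hPS : IsProper (CohB1.ProjSpace.toSpec M k) := Groth.Agent.Ega3B.ProjProper.isProper_toSpec M k
  have hXp : IsProper (X ↘ Spec (CommRingCat.of k)) := by rw [← hι]; infer_instance
  have hNX : IsNoetherian X := Fga.IntAdd.isNoetherian k X
  -- the ample class
  have hH : CohB1.IsAmple ((Scheme.Modules.pullback ι).obj (Twist.twistProjSpace M k 1)) :=
    Sga5.AmpleFib.isAmple_pullback ι (VarietyA.AmpleField.isAmple_twistProjSpace M k)
  -- the canonical module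
  have hrel : SmoothOfRelativeDimension n (X ↘ Spec (CommRingCat.of k)) :=
    K455.RelDim.smoothOfRelativeDimension k (X ↘ Spec (CommRingCat.of k)) n (fun Z hZ => by
      rw [irreducibleComponents_eq_singleton] at hZ
      rw [Set.mem_singleton_iff.mp hZ, IsHomeomorph.topologicalKrullDim_eq _ (Homeomorph.Set.univ X).isHomeomorph, hn])
  have hΩ : FlatMod.IsFinLocFreeOfRank n (Omega.sheaf (X ↘ Spec (CommRingCat.of k))) :=
    Dual.H339.OmegaRank.isFinLocFreeOfRank_omega n _
  obtain ⟨K, -, hKe, -⟩ := K890.Polarized.exists_extPow_omega (X ↘ Spec (CommRingCat.of k)) n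
  have hK : PicF.IsInvertible K := K482.CanonTool.isInvertible_extPow hΩ hKe
  -- degrees of the differentials
  have hdeg : ∀ (C : Scheme.{u}) [C.Over (Spec (CommRingCat.of k))],
      Curve.IsSmoothProperCurve k C (C ↘ Spec (CommRingCat.of k)) →
      ∀ f : C ⟶ X, f ≫ (X ↘ Spec (CommRingCat.of k)) = C ↘ Spec (CommRingCat.of k) →
        Curv2.deg k C ((Scheme.Modules.pullback f).obj (Omega.sheaf (X ↘ Spec (CommRingCat.of k)))) n =
          dg (C ↘ Spec (CommRingCat.of k)) ((Scheme.Modules.pullback f).obj K) := by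
    intro C _ hC f hf
    obtain ⟨hCp, hCs, hCi, hCd⟩ := hC
    exact S7638.result k C hCd.le n _ (Krr.H482.PullLambda.isFinLocFreeOfRank_pullback f hΩ) _
      (Krr.H487.PullExt.isExtPow_pullback f (Krr.H487.KerRank.isFinLocFree_of_rank hΩ) hKe)
  rw [or_iff_not_imp_left]
  intro hnot
  have hN := isInvertible_dual hK
  -- the dual is nef
  have hnefN : K909.Kleiman.Nef k X (dual K) := by
    intro Y i hi hY hYd
    rw [curveDeg_eq_dg _ hYd]
    obtain ⟨C, f, m, hC, hm, -, hdf⟩ := exists_test (X ↘ Spec (CommRingCat.of k)) i hYd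
    let _ : C.Over (Spec (CommRingCat.of k)) := ⟨f ≫ (X ↘ Spec (CommRingCat.of k))⟩
    have h1 := hnef C hC f rfl
    rw [hdeg C hC f rfl] at h1
    have h2 := hdf _ hN
    obtain ⟨hCp, hCs, hCi, hCd⟩ := hC
    rw [dg_dual _ hCd f hK] at h2
    have h3 : dg (f ≫ (X ↘ Spec (CommRingCat.of k))) ((Scheme.Modules.pullback f).obj K) ≤ 0 := h1
    have h4 : 0 ≤ m * dg (i ≫ (X ↘ Spec (CommRingCat.of k))) ((Scheme.Modules.pullback i).obj (dual K)) := by
      rw [← h2]; linarith
    exact nonneg_of_mul_nonneg_right h4 hm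
  -- it is not numerically trivial
  have hnum : ¬ Pic13.IsNumEquivZero k X (dual K) := by
    intro hnum
    refine hnot fun C _ hC f hf => le_antisymm (hnef C hC f hf) ?_
    rw [hdeg C hC f hf]
    have hKn : K432.NefBasic.Nef (X ↘ Spec (CommRingCat.of k)) K := by
      intro J hJ hJd
      have hd1 : topologicalKrullDim J.subscheme = 1 := by
        rw [K432.NefBasic.topologicalKrullDim_subscheme, hJd]
      have h1 := hnum J.subscheme J.subschemeι hJ hd1
      rw [curveDeg_eq_dg _ hd1, dg_dual _ hd1 _ hK] at h1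
      linarith
    obtain ⟨hCp, hCs, hCi, hCd⟩ := hC
    have hp : IsProper (f ≫ (X ↘ Spec (CommRingCat.of k))) := by rw [hf]; exact hCp
    have h2 := hKn.dg_nonneg hK hCd f
    rwa [hf] at h2
  -- the dimension is positive
  obtain ⟨r, rfl⟩ : ∃ r, n = r + 1 := by
    by_contra hcon
    have h0 : n = 0 := by
      by_contra h
      exact hcon ⟨n - 1, by omega⟩
    refine hnum fun Y i hi hY hYd => ?_
    have h1 := dim_le_of_closed i
    rw [hYd, hn, h0] at h1
    exact absurd h1 (by decide)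
  have hApos := intersection_pos (k := k) X r hn _ hH (dual K) hN hnefN hnum
  set A := inter k X (r + 1) (Coh.structureModule X)
    (Fin.cons (mk (dual K) hN) (fun _ : Fin r => mk _ hH.1) : Fin (r + 1) → Pic X) with hA
  set B := inter k X (r + 1) (Coh.structureModule X) (fun _ : Fin (r + 1) => mk _ hH.1) with hB
  obtain ⟨Z, hZc, hZ⟩ := S16504.result k X M ι hι (2 * (r + 1) * B).toNat
  by_cases hZu : Z = Set.univ
  · intro x hx
    obtain ⟨g, hg1, hg2, hg3, -⟩ := (hZ x hx).mp (by rw [hZu]; trivial)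
    exact ⟨g, hg1, hg2, hg3⟩
  exfalso
  obtain ⟨Y, i, hi, hY, hYd, hYZ, hineq⟩ := exists_curve (k := k) X r hn _ hH (dual K) hN Z hZc hZu
  rw [← hA, ← hB] at hineq
  obtain ⟨C, f, m, hC, hm, hfr, hdf⟩ := exists_test (X ↘ Spec (CommRingCat.of k)) i hYd
  have hC' := hC
  obtain ⟨hCp, hCs, hCi, hCd⟩ := hC'
  let _ : C.Over (Spec (CommRingCat.of k)) := ⟨f ≫ (X ↘ Spec (CommRingCat.of k))⟩
  refine hYZ (hfr ▸ range_subset_of_closed (f ≫ (X ↘ Spec (CommRingCat.of k))) f Z hZc fun c hc => ?_)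
  have hHY : 0 < dg (i ≫ (X ↘ Spec (CommRingCat.of k)))
      ((Scheme.Modules.pullback i).obj ((Scheme.Modules.pullback ι).obj (Twist.twistProjSpace M k 1))) :=
    dg_pos (k := k) X i hYd hH
  have hB0 : 0 < B := ample_pos (k := k) X r hn _ hH
  set a := dg (i ≫ (X ↘ Spec (CommRingCat.of k)))
      ((Scheme.Modules.pullback i).obj ((Scheme.Modules.pullback ι).obj (Twist.twistProjSpace M k 1))) with ha
  set b := dg (i ≫ (X ↘ Spec (CommRingCat.of k))) ((Scheme.Modules.pullback i).obj (dual K)) with hb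
  have hbpos : 0 < b := by
    by_contra hle
    push Not at hle
    have h1 : 0 < A * a := mul_pos hApos hHY
    have h2 : B * b ≤ 0 := mul_nonpos_of_nonneg_of_nonpos hB0.le hle
    linarith
  have hdegf : Curv2.deg k C ((Scheme.Modules.pullback f).obj (Omega.sheaf (X ↘ Spec (CommRingCat.of k)))) (r + 1) =
      - (m * b) := by
    rw [hdeg C hC f rfl]
    have h2 := hdf _ hN
    rw [dg_dual _ hCd f hK] at h2
    have h3 : dg (C ↘ Spec (CommRingCat.of k)) ((Scheme.Modules.pullback f).obj K) =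
      dg (f ≫ (X ↘ Spec (CommRingCat.of k))) ((Scheme.Modules.pullback f).obj K) := rfl
    rw [h3]
    linarith
  obtain ⟨g, hg1, hg2, hg3, hg4⟩ := hst X M ι hι (r + 1) hn C hC f rfl ⊤ (Set.subset_univ _)
    (by infer_instance) (by rw [hdegf]; have := mul_pos hm hbpos; linarith) c hc
  refine (hZ (f c) ?_).mpr ⟨g, hg1, hg2, hg3, ?_⟩
  · have hfp : IsProper f := by
      have : IsProper (f ≫ (X ↘ Spec (CommRingCat.of k))) := hCp
      exact IsProper.of_comp f (X ↘ Spec (CommRingCat.of k))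
    have := f.isClosedMap _ hc
    rwa [Set.image_singleton] at this
  · have h5 : Curv2.deg k C ((Scheme.Modules.pullback (f ≫ ι)).obj (Twist.twistProjSpace M k 1)) 1 = m * a := by
      rw [← hdf _ hH.1]
      exact dg_congr _ ((Scheme.Modules.pullbackComp f ι).symm.app _)
    rw [hdegf, h5, neg_neg] at hg4
    set D := Curv2.deg k (CohB1.ProjSpace 1 k)
      ((Scheme.Modules.pullback (g ≫ ι)).obj (Twist.twistProjSpace M k 1)) 1 with hD
    refine le_trans ?_ (Int.self_le_toNat _)
    have h6 : D * b ≤ 2 * (r + 1) * a := by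
      refine le_of_mul_le_mul_left ?_ hm
      calc m * (D * b) = D * (m * b) := by ring
        _ ≤ 2 * ((r + 1 : ℕ) : ℤ) * (m * a) := hg4
        _ = m * (2 * (r + 1) * a) := by push_cast; ring
    have h7 : a ≤ A * a := le_mul_of_one_le_left hHY.le hApos
    refine le_of_mul_le_mul_right ?_ hbpos
    calc D * b ≤ 2 * (r + 1) * a := h6
      _ ≤ 2 * (r + 1) * (A * a) := mul_le_mul_of_nonneg_left h7 (by positivity)
      _ ≤ 2 * (r + 1) * (B * b) := mul_le_mul_of_nonneg_left hineq (by positivity)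
      _ = 2 * (r + 1) * B * b := by ring

end K43.NefFinal
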