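import Groth.Agent.Curves.K43.NefCut
import Groth.Agent.CohqB.AmpGeneric
import Groth.Agent.Variety.K432.NefBasic
import Groth.Agent.Variety.K424.NakMain
import Groth.Agent.Etcore.DegZero
import Groth.Agent.Fga.EulerLEAdd
import Groth.Agent.Ega2.SmoothBdry
import Groth.Agent.S4290
import Groth.Agent.Curves.K43.MoriZero

/-!
# Curves violating an inequality outside a closed subset

* `dg_dual`, `inter_OZ`: degrees on curves over `X`.
* `exists_test`: a smooth proper curve dominating an integral closed curve.
* `exists_curve`: for `H` ample and a closed `Z ≠ X`, an integral closed curve `Y ⊄ Z` with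
  `(N · H^r)(H · Y) ≤ H^{r+1} (N · Y)`.
* `intersection_pos`: `(N · H^r) > 0` for `N` nef and not numerically trivial.
-/

set_option autoImplicit false
universe u
open CategoryTheory CategoryTheory.Limits AlgebraicGeometry TopologicalSpace

namespace K43.NefMori

open Groth.Agent Groth.Agent.Fga.PicMon Groth.Agent.Grpsch.PicGrp Groth.Agent.Pic13.H970.IntForm
  K909.InterML K909.Kleiman K909.RootArg K432.CurveDeg

variable {k : Type u} [Field k]

theorem curveDeg_eq_dg {Y : Scheme.{u}} (p : Y ⟶ Spec (CommRingCat.of k)) [IsProper p]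
    (hY : topologicalKrullDim Y = 1) (L : Y.Modules) : Pic13.curveDeg k p L = dg p L := by
  let _ : Y.Over (Spec (CommRingCat.of k)) := ⟨p⟩
  have _ : IsProper (Y ↘ Spec (CommRingCat.of k)) := inferInstanceAs (IsProper p)
  have := Fga.IntAdd.isNoetherian k Y
  unfold Pic13.curveDeg
  unfold K432.CurveDeg.dg
  unfold Curv2.deg
  have h1 : topologicalKrullDim Y ≤ (1 : ℕ) := by rw [hY]; rfl
  rw [Fga.EulerLEAdd.eulerCharLE_eq_euler k Y 1 h1, Fga.EulerLEAdd.eulerCharLE_eq_euler k Y 1 h1]
  simp

/-- The degree of the inverse image of the dual. -/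
theorem dg_dual {C X : Scheme.{u}} [IsIntegral C] (s : C ⟶ Spec (CommRingCat.of k)) [IsProper s]
    (hdim : topologicalKrullDim C = 1) (f : C ⟶ X) {L : X.Modules} (hL : PicF.IsInvertible L) :
    dg s ((Scheme.Modules.pullback f).obj (dual L)) = - dg s ((Scheme.Modules.pullback f).obj L) := by
  let _ : C.Over (Spec (CommRingCat.of k)) := ⟨s⟩
  have _ : IsProper (C ↘ Spec (CommRingCat.of k)) := inferInstanceAs (IsProper s)
  have h : ∀ (M : X.Modules) (hM : PicF.IsInvertible M),
      dg s ((Scheme.Modules.pullback f).obj M) = Etcore.DegZero.dg k C (pull f (mk M hM)) := by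
    intro M hM
    rw [← curveDeg_eq_dg s hdim]
    rfl
  rw [h _ (isInvertible_dual hL), h _ hL, ← inv_mk hL, map_inv, Etcore.DegZero.dg_inv k C hdim]

section inter

variable (X : Scheme.{u}) [X.Over (Spec (CommRingCat.of k))] [IsProper (X ↘ Spec (CommRingCat.of k))]
  (d : ℕ) (hd : topologicalKrullDim X ≤ d)

include hd in
/-- The one-fold number on an integral closed curve is the degree. -/
theorem inter_OZ {Y : Scheme.{u}} (i : Y ⟶ X) [IsClosedImmersion i] (hY : topologicalKrullDim Y = 1)
    {L : X.Modules} (hL : PicF.IsInvertible L) :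
    inter k X d (OZ i) (fun _ : Fin 1 => mk L hL) =
      dg (i ≫ (X ↘ Spec (CommRingCat.of k))) ((Scheme.Modules.pullback i).obj L) := by
  let _ : Y.Over (Spec (CommRingCat.of k)) := ⟨i ≫ (X ↘ Spec (CommRingCat.of k))⟩
  have hi : i ≫ (X ↘ Spec (CommRingCat.of k)) = Y ↘ Spec (CommRingCat.of k) := rfl
  have _ : IsProper (Y ↘ Spec (CommRingCat.of k)) := by rw [← hi]; infer_instance
  have hdY : topologicalKrullDim Y ≤ d := (dim_le_of_closed i).trans hd
  have hY' : topologicalKrullDim Y ≤ (1 : ℕ) := by rw [hY]; rfl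
  rw [OZ, inter_push k i hi]
  simp only [pull_mk]
  have h := curveDeg_eq_dg (i ≫ (X ↘ Spec (CommRingCat.of k))) hY ((Scheme.Modules.pullback i).obj L)
  rw [inter_one k Y d hdY _ _ hY', Pic13.H972.Glue.euler_eq_euler k Y d 1 hdY hY',
    Pic13.H972.Glue.euler_eq_euler k Y d 1 hdY hY', ← h]
  rfl

omit d in
/-- The degree of an ample module on a closed curve is positive. -/
theorem dg_pos {Y : Scheme.{u}} (i : Y ⟶ X) [IsClosedImmersion i] (hY : topologicalKrullDim Y = 1)
    {H : X.Modules} (hH : CohB1.IsAmple H) :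
    0 < dg (i ≫ (X ↘ Spec (CommRingCat.of k))) ((Scheme.Modules.pullback i).obj H) := by
  let _ : Y.Over (Spec (CommRingCat.of k)) := ⟨i ≫ (X ↘ Spec (CommRingCat.of k))⟩
  have hi : i ≫ (X ↘ Spec (CommRingCat.of k)) = Y ↘ Spec (CommRingCat.of k) := rfl
  have _ : IsProper (Y ↘ Spec (CommRingCat.of k)) := by rw [← hi]; infer_instance
  have hY' : topologicalKrullDim Y = (1 : ℕ) := by rw [hY]; rfl
  have h1 := degc_pos k Y 1 hY'.le _ (CohqB.AmpCocycle.isAmple_pullback i hH) hY'
  rw [← curveDeg_eq_degc k Y 1 hY'.le _ _ hY'.le, ← hi, curveDeg_eq_dg _ hY] at h1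
  exact h1

end inter

/-- A smooth proper curve dominating an integral closed curve. -/
theorem exists_test [IsAlgClosed k] {X : Scheme.{u}} (p : X ⟶ Spec (CommRingCat.of k)) [IsProper p]
    {Y : Scheme.{u}} [IsIntegral Y] (i : Y ⟶ X) [IsClosedImmersion i] (hdim : topologicalKrullDim Y = 1) :
    ∃ (C : Scheme.{u}) (f : C ⟶ X) (m : ℤ), Curve.IsSmoothProperCurve k C (f ≫ p) ∧ 0 < m ∧
      Set.range f = Set.range i ∧ ∀ L : X.Modules, PicF.IsInvertible L →
        dg (f ≫ p) ((Scheme.Modules.pullback f).obj L) = m * dg (i ≫ p) ((Scheme.Modules.pullback i).obj L) := by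
  obtain ⟨C, ν, hν, hs, hC, hCd, hreg, -⟩ := K432.CurveNorm.exists_regular_model (i ≫ p) hdim
  have hdom : IsDominant ν := ⟨hs.surj.denseRange⟩
  obtain ⟨m, hm, hm'⟩ := exists_dg_pullback_dominant (i ≫ p) ν hCd hdim
  refine ⟨C, ν ≫ i, m, ⟨?_, ?_, hC, hCd⟩, hm, ?_, fun L hL => ?_⟩
  · rw [Category.assoc]; infer_instance
  · exact Ega2.SmoothBdry.smooth_of_regular _ hreg
  · rw [show (⇑(ν ≫ i) : C → X) = i ∘ ν from rfl, Set.range_comp, Set.range_eq_univ.mpr hs.surj, Set.image_univ]
  · have h1 := hm' _ (Fdesc.LocGen.isInvertible_pullback i hL)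
    rw [← h1, Category.assoc]
    exact dg_congr _ ((Scheme.Modules.pullbackComp ν i).symm.app L)

theorem le_of_lt_succ (x : WithBot ℕ∞) (r : ℕ) (h : x < ((r + 1 : ℕ) : WithBot ℕ∞)) : x ≤ r := by
  induction x using WithBot.recBotCoe with
  | bot => exact bot_le
  | coe x =>
    have h' : x < ((r + 1 : ℕ) : ℕ∞) := by exact_mod_cast h
    have h2 : x ≤ (r : ℕ∞) := Order.le_of_lt_add_one (by exact_mod_cast h')
    exact_mod_cast h2

section curve

variable (X : Scheme.{u}) [X.Over (Spec (CommRingCat.of k))] [IsProper (X ↘ Spec (CommRingCat.of k))] [IsIntegral X]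

omit [IsIntegral X] in
theorem dim_support_unit : topologicalKrullDim (CohB1.support (Coh.structureModule X)) = topologicalKrullDim X := by
  rw [Pic13.H970.Assembly.support_unit]
  exact IsHomeomorph.topologicalKrullDim_eq _ (Homeomorph.Set.univ X).isHomeomorph

/-- The top self-intersection number of an ample class is positive. -/
theorem ample_pos (r : ℕ) (hdim : topologicalKrullDim X = (r + 1 : ℕ)) (H : X.Modules) (hH : CohB1.IsAmple H) :
    0 < inter k X (r + 1) (Coh.structureModule X) (fun _ : Fin (r + 1) => mk H hH.1) := by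
  have := Fga.IntAdd.isNoetherian k X
  rw [inter_eq_I]
  exact I_pos k X (r + 1) hdim.le _ (CurvesC.UnitCoh.isCoh_unit X) (fun _ => H) (fun _ => hH) (fun _ => hH.1)
    (by rw [dim_support_unit, hdim])

theorem exists_curve (r : ℕ) (hdim : topologicalKrullDim X = (r + 1 : ℕ)) (H : X.Modules) (hH : CohB1.IsAmple H)
    (N : X.Modules) (hN : PicF.IsInvertible N) (Zc : Set X) (hZc : IsClosed Zc) (hne : Zc ≠ Set.univ) :
    ∃ (Y : Scheme.{u}) (i : Y ⟶ X), IsClosedImmersion i ∧ IsIntegral Y ∧ topologicalKrullDim Y = 1 ∧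
      ¬ (Set.range i ⊆ Zc) ∧
      inter k X (r + 1) (Coh.structureModule X) (Fin.cons (mk N hN) (fun _ : Fin r => mk H hH.1) : Fin (r + 1) → Pic X) *
          dg (i ≫ (X ↘ Spec (CommRingCat.of k))) ((Scheme.Modules.pullback i).obj H) ≤
        inter k X (r + 1) (Coh.structureModule X) (fun _ : Fin (r + 1) => mk H hH.1) *
          dg (i ≫ (X ↘ Spec (CommRingCat.of k))) ((Scheme.Modules.pullback i).obj N) := by
  have := Fga.IntAdd.isNoetherian k X
  set A := inter k X (r + 1) (Coh.structureModule X)
    (Fin.cons (mk N hN) (fun _ : Fin r => mk H hH.1) : Fin (r + 1) → Pic X) with hA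
  set B := inter k X (r + 1) (Coh.structureModule X) (fun _ : Fin (r + 1) => mk H hH.1) with hB
  have hO : Coh.IsCoh (Coh.structureModule X) := CurvesC.UnitCoh.isCoh_unit X
  have hOd : topologicalKrullDim (CohB1.support (Coh.structureModule X)) = (r + 1 : ℕ) := by
    rw [dim_support_unit, hdim]
  have hBpos : 0 < B := ample_pos X r hdim H hH
  have hBc : B = inter k X (r + 1) (Coh.structureModule X)
      (Fin.cons (mk H hH.1) (fun _ : Fin r => mk H hH.1) : Fin (r + 1) → Pic X) := by
    rw [hB, cons_const]
  have hirr : IsIrreducible (Set.univ : Set X) := irreducibleSpace_def _ |>.mp inferInstance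
  have huniv : topologicalKrullDim (Set.univ : Set X) = (r + 1 : ℕ) := by
    rw [IsHomeomorph.topologicalKrullDim_eq _ (Homeomorph.Set.univ X).isHomeomorph, hdim]
  have hZd : topologicalKrullDim (CohB1.support (Coh.structureModule X) ∩ Zc : Set X) ≤ r := by
    have h1 : topologicalKrullDim Zc < ((r + 1 : ℕ) : WithBot ℕ∞) :=
      Fga.DimLt.topologicalKrullDim_lt hirr hZc (Set.subset_univ _) hne (d := r + 1) (by
        rw [huniv]; exact_mod_cast Nat.lt_succ_self _)
    have h2 := (Fga.DimLt.topologicalKrullDim_mono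
      (Set.inter_subset_right : CohB1.support (Coh.structureModule X) ∩ Zc ⊆ Zc)).trans_lt h1
    exact le_of_lt_succ _ r h2
  obtain ⟨m, G, hm, hG, hGd, hGZ, hcut⟩ := NefCut.exists_curve_module k X (r + 1) hdim.le
    (Coh.structureModule X) hO H hH r hOd Zc hZc hZd
  have hcN := hcut (mk N hN)
  have hcH := hcut (mk H hH.1)
  rw [← hA] at hcN
  rw [← hBc] at hcH
  have hm' : (0 : ℤ) < m := by exact_mod_cast hm
  obtain ⟨Y, i, hi, hY, hYd, hYr, hYn⟩ := NefCut.exists_nonneg
    (fun E => B * inter k X (r + 1) E (fun _ : Fin 1 => mk N hN) -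
      A * inter k X (r + 1) E (fun _ : Fin 1 => mk H hH.1))
    (fun E => inter k X (r + 1) E (fun _ : Fin 1 => mk H hH.1))
    (fun S hS h1 h2 h3 => by
      have e1 := isAdd_inter k X (r + 1) hdim.le (fun _ : Fin 1 => mk N hN) S hS h1 h2 h3
      have e2 := isAdd_inter k X (r + 1) hdim.le (fun _ : Fin 1 => mk H hH.1) S hS h1 h2 h3
      simp only at e1 e2 ⊢
      rw [e1, e2]
      ring)
    (isAdd_inter k X (r + 1) hdim.le _) 1
    (fun E hE hEd => by
      rw [inter_eq_zero k X (r + 1) hdim.le E hE _ hEd, inter_eq_zero k X (r + 1) hdim.le E hE _ hEd]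
      ring)
    (fun E hE hEd => inter_eq_zero k X (r + 1) hdim.le E hE _ hEd) G hG hGd.le
    (by
      change 0 ≤ B * inter k X (r + 1) G (fun _ : Fin 1 => mk N hN) -
        A * inter k X (r + 1) G (fun _ : Fin 1 => mk H hH.1)
      rw [← hcN, ← hcH]
      apply le_of_eq
      ring)
    (by
      rw [← hcH]
      exact (mul_pos hm' hBpos).ne')
  have hYd' : topologicalKrullDim Y = 1 := by rw [hYd]; rfl
  refine ⟨Y, i, hi, hY, hYd', ?_, ?_⟩
  · intro hsub
    have h1 : topologicalKrullDim (Set.range i) ≤ (0 : ℕ) :=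
      (Fga.DimLt.topologicalKrullDim_mono (Set.subset_inter hYr hsub)).trans hGZ
    have h2 : topologicalKrullDim (Set.range i) = topologicalKrullDim Y :=
      (IsHomeomorph.topologicalKrullDim_eq _
        i.isClosedEmbedding.isEmbedding.toHomeomorph.isHomeomorph).symm
    rw [h2, hYd'] at h1
    exact absurd h1 (by decide)
  · have h1 : 0 ≤ B * inter k X (r + 1) (OZ i) (fun _ : Fin 1 => mk N hN) -
        A * inter k X (r + 1) (OZ i) (fun _ : Fin 1 => mk H hH.1) := hYn
    rw [inter_OZ X (r + 1) hdim.le i hYd' hN, inter_OZ X (r + 1) hdim.le i hYd' hH.1] at h1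
    linarith

/-- `(N · H^r) > 0` for `N` nef, not numerically trivial, on an integral scheme of dimension `r + 1`. -/
theorem intersection_pos [IsAlgClosed k] (r : ℕ) (hdim : topologicalKrullDim X = (r + 1 : ℕ)) (H : X.Modules)
    (hH : CohB1.IsAmple H) (N : X.Modules) (hN : PicF.IsInvertible N) (hnef : K909.Kleiman.Nef k X N)
    (hnum : ¬ Pic13.IsNumEquivZero k X N) :
    0 < inter k X (r + 1) (Coh.structureModule X)
      (Fin.cons (mk N hN) (fun _ : Fin r => mk H hH.1) : Fin (r + 1) → Pic X) := by
  have := Fga.IntAdd.isNoetherian k X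
  have hO : Coh.IsCoh (Coh.structureModule X) := CurvesC.UnitCoh.isCoh_unit X
  have hOd : topologicalKrullDim (CohB1.support (Coh.structureModule X)) = (r + 1 : ℕ) := by
    rw [dim_support_unit, hdim]
  refine lt_of_le_of_ne (nonneg_one k X (r + 1) hdim.le N hN hnef H hH r _ hO hOd.le) fun h0 => hnum ?_
  rcases r with _ | s
  · -- a curve
    have h1 : topologicalKrullDim X = 1 := by rw [hdim]; rfl
    intro Y i hi hY hYd
    have hp : IsProper (i ≫ (X ↘ Spec (CommRingCat.of k))) := inferInstance
    rw [curveDeg_eq_dg _ hYd]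
    have hrange : Set.range i = Set.univ := Pic13.H972.Glue.range_eq_univ i h1.le hYd
    have hdom : IsDominant i := ⟨(Set.range_eq_univ.mp hrange).denseRange⟩
    obtain ⟨m, hm, hm'⟩ := exists_dg_pullback_dominant (X ↘ Spec (CommRingCat.of k)) i hYd h1
    rw [hm' N hN]
    have h2 : dg (X ↘ Spec (CommRingCat.of k)) N = 0 := by
      rw [← curveDeg_eq_dg _ h1, curveDeg_eq_degc k X 1 (by rw [h1]; rfl) N hN (by rw [h1]; rfl)]
      have e : (Fin.cons (mk N hN) (fun _ : Fin 0 => mk H hH.1) : Fin 1 → Pic X) = fun _ => mk N hN := by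
        funext j
        cases j using Fin.cases with
        | zero => rfl
        | succ j => exact j.elim0
      have h3 := h0.symm
      rw [e] at h3
      exact h3
    rw [h2, mul_zero]
  · have eN : Nonempty (CohB1.tensorMod N (dual N) ≅ Coh.structureModule X) :=
      ⟨@asIso _ _ _ _ (ev N) (isIso_ev hN)⟩
    have eH : Nonempty (CohB1.tensorMod H (dual H) ≅ Coh.structureModule X) :=
      ⟨@asIso _ _ _ _ (ev H) (isIso_ev hH.1)⟩
    refine S4290.result k X s hdim H (dual H) N (dual N) hH hN eH eN ?_ ?_
    · have h1 := inter_mk k X (s + 2) (Coh.structureModule X)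
        (Matrix.vecCons N (fun _ : Fin (s + 1) => H)) (Matrix.vecCons (dual N) (fun _ : Fin (s + 1) => dual H))
        (fun j => by
          cases j using Fin.cases with
          | zero => exact hN
          | succ j => exact hH.1)
        (fun j => by
          cases j using Fin.cases with
          | zero => exact isInvertible_dual hN
          | succ j => exact isInvertible_dual hH.1)
        (fun j => by
          cases j using Fin.cases with
          | zero => exact eN
          | succ j => exact eH)
      rw [← h1]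
      refine Eq.trans ?_ h0.symm
      congr 1
      funext j
      cases j using Fin.cases with
      | zero => rfl
      | succ j => rfl
    · have h1 := inter_mk k X (s + 2) (Coh.structureModule X)
        (Matrix.vecCons N (Matrix.vecCons N (fun _ : Fin s => H)))
        (Matrix.vecCons (dual N) (Matrix.vecCons (dual N) (fun _ : Fin s => dual H)))
        (fun j => by
          cases j using Fin.cases with
          | zero => exact hN
          | succ j =>
            cases j using Fin.cases with
            | zero => exact hN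
            | succ j => exact hH.1)
        (fun j => by
          cases j using Fin.cases with
          | zero => exact isInvertible_dual hN
          | succ j =>
            cases j using Fin.cases with
            | zero => exact isInvertible_dual hN
            | succ j => exact isInvertible_dual hH.1)
        (fun j => by
          cases j using Fin.cases with
          | zero => exact eN
          | succ j =>
            cases j using Fin.cases with
            | zero => exact eN
            | succ j => exact eH)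
      rw [← h1]
      refine nonneg_mixed (hnef := hnef) (nak := K424.NakMain.nak k) (hd := hdim.le) hN hH _ hO hOd.le _ (fun j => ?_)
      cases j using Fin.cases with
      | zero => exact Or.inl rfl
      | succ j =>
        cases j using Fin.cases with
        | zero => exact Or.inl rfl
        | succ j => exact Or.inr rfl

end curve

end K43.NefMori
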