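import Groth.Agent.DelIll.K890.Generic
import Mathlib.RingTheory.Nullstellensatz

/-!
# Tuples of polynomials satisfying equations; spreading out their nonexistence

* `Tup v G e`: there is a tuple `h` of polynomials of degree `≤ e` with `h(0) = v`, not proportional to `v`, satisfying
  the equations `G`.
* `exists_cert`: membership in an ideal generated by given polynomials over `k` holds over a finitely generated
  subring.
* `ev_not_tup`: if `¬ Tup` over the algebraically closed field `k`, then `¬ Tup` over almost all fields under `S`.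
-/

set_option autoImplicit false
universe u
open MvPolynomial K890.Spread K890.Generic

namespace K43.TupSpread

variable {N m : ℕ}

/-- There is a tuple of polynomials of degree `≤ e` with value `v` at `0`, not proportional to `v`, satisfying the
equations `G`. -/
def Tup {T : Type u} [CommRing T] (v : Fin (N + 1) → T) (G : Fin m → MvPolynomial (Fin (N + 1)) T) (e : ℕ) : Prop :=
  ∃ h : Fin (N + 1) → Polynomial T, (∀ i, (h i).natDegree ≤ e) ∧ (∀ i, (h i).eval 0 = v i) ∧
    (∃ i j, h i * Polynomial.C (v j) ≠ h j * Polynomial.C (v i)) ∧ ∀ l, aeval h (G l) = 0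

section Cert

variable {k : Type u} [Field k] {σ : Type u} {ι : Type u}

/-- Membership in an ideal generated by given polynomials descends to a finitely generated subring. -/
theorem exists_cert {S : Subalgebra ℤ k} (hS : S.FG) (g : ι → MvPolynomial σ S) (δ : MvPolynomial σ S)
    (h : map S.val.toRingHom δ ∈ Ideal.span (Set.range fun i => map S.val.toRingHom (g i))) :
    ∃ (S' : Subalgebra ℤ k) (hle : S ≤ S'), S'.FG ∧
      map (Subalgebra.inclusion hle).toRingHom δ ∈
        Ideal.span (Set.range fun i => map (Subalgebra.inclusion hle).toRingHom (g i)) := by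
  classical
  rw [Ideal.span, Finsupp.mem_span_range_iff_exists_finsupp] at h
  obtain ⟨c, hc⟩ := h
  let F : Finset k := c.support.biUnion fun i => (c i).coeffs
  let S' : Subalgebra ℤ k := S ⊔ Algebra.adjoin ℤ (F : Set k)
  have hle : S ≤ S' := le_sup_left
  have hF : (F : Set k) ⊆ S' := fun x hx =>
    (le_sup_right : Algebra.adjoin ℤ (F : Set k) ≤ S') (Algebra.subset_adjoin hx)
  have h1 : ∀ i, c i ∈ Set.range (map S'.val.toRingHom : MvPolynomial σ S' → MvPolynomial σ k) := by
    intro i
    rw [mem_range_map_iff_coeffs_subset]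
    by_cases hi : i ∈ c.support
    · intro x hx
      have h2 : x ∈ (F : Set k) := Finset.mem_coe.mpr (Finset.mem_biUnion.mpr ⟨i, hi, hx⟩)
      exact ⟨⟨x, hF h2⟩, rfl⟩
    · rw [Finsupp.notMem_support_iff.mp hi]
      simp
  choose c' hc' using h1
  refine ⟨S', hle, hS.sup (Subalgebra.fg_adjoin_finset F), ?_⟩
  have hinj : Function.Injective (map S'.val.toRingHom : MvPolynomial σ S' → MvPolynomial σ k) :=
    map_injective _ Subtype.val_injective
  have hmm : ∀ q : MvPolynomial σ S, map S'.val.toRingHom (map (Subalgebra.inclusion hle).toRingHom q) =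
      map S.val.toRingHom q := by
    intro q
    rw [map_map]
    rfl
  have h3 : map (Subalgebra.inclusion hle).toRingHom δ =
      ∑ i ∈ c.support, c' i * map (Subalgebra.inclusion hle).toRingHom (g i) := by
    apply hinj
    rw [hmm, map_sum, ← hc, Finsupp.sum]
    refine Finset.sum_congr rfl fun i _ => ?_
    rw [map_mul, hc', hmm, smul_eq_mul]
  rw [h3]
  exact Ideal.sum_mem _ fun i _ => Ideal.mul_mem_left _ _ (Ideal.subset_span ⟨i, rfl⟩)

end Cert

section Univ

variable {R : Type u} [CommRing R] (v : Fin (N + 1) → R) (e : ℕ)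

/-- The coordinates of the space of tuples. -/
abbrev Co (N e : ℕ) : Type u := ULift.{u} (Fin (N + 1) × Fin e)

/-- The universal tuple. -/
noncomputable def hu (i : Fin (N + 1)) : Polynomial (MvPolynomial (Co.{u} N e) R) :=
  Polynomial.C (C (v i)) + ∑ a : Fin e, Polynomial.C (X (ULift.up (i, a))) * Polynomial.X ^ (a.1 + 1)

/-- The tuple of polynomials with given coefficients. -/
noncomputable def hx {T : Type u} [CommRing T] (v : Fin (N + 1) → T) (x : Co.{u} N e → T) (i : Fin (N + 1)) :
    Polynomial T :=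
  Polynomial.C (v i) + ∑ a : Fin e, Polynomial.C (x (ULift.up (i, a))) * Polynomial.X ^ (a.1 + 1)

variable {v e} in
theorem map_hu {T : Type u} [CommRing T] (φ : R →+* T) (x : Co.{u} N e → T) (i : Fin (N + 1)) :
    Polynomial.mapRingHom (eval₂Hom φ x) (hu v e i) = hx e (fun j => φ (v j)) x i := by
  simp [hu, hx, Polynomial.map_sum]

theorem coeff_hx {T : Type u} [CommRing T] (v : Fin (N + 1) → T) (x : Co.{u} N e → T) (i : Fin (N + 1)) (a : Fin e) :
    (hx e v x i).coeff (a.1 + 1) = x (ULift.up (i, a)) := by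
  rw [hx, Polynomial.coeff_add, Polynomial.finsetSum_coeff, Polynomial.coeff_C_succ, zero_add]
  simp only [Polynomial.coeff_C_mul, Polynomial.coeff_X_pow]
  rw [Finset.sum_eq_single a]
  · simp
  · intro b _ hb
    rw [if_neg, mul_zero]
    intro h
    exact hb (Fin.ext (by omega))
  · intro h
    exact absurd (Finset.mem_univ a) h

theorem natDegree_hx {T : Type u} [CommRing T] (v : Fin (N + 1) → T) (x : Co.{u} N e → T) (i : Fin (N + 1)) :
    (hx e v x i).natDegree ≤ e := by
  rw [hx]
  refine (Polynomial.natDegree_add_le _ _).trans (max_le (by simp) ?_)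
  refine Polynomial.natDegree_sum_le_of_forall_le _ _ fun a _ => ?_
  refine (Polynomial.natDegree_C_mul_X_pow_le _ _).trans ?_
  have := a.2
  omega

theorem eval_hx {T : Type u} [CommRing T] (v : Fin (N + 1) → T) (x : Co.{u} N e → T) (i : Fin (N + 1)) :
    (hx e v x i).eval 0 = v i := by
  rw [hx]
  simp [Polynomial.eval_finsetSum]

theorem exists_hx {T : Type u} [CommRing T] (v : Fin (N + 1) → T) (h : Fin (N + 1) → Polynomial T)
    (hd : ∀ i, (h i).natDegree ≤ e) (h0 : ∀ i, (h i).eval 0 = v i) :
    ∃ x : Co.{u} N e → T, h = hx e v x := by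
  refine ⟨fun c => (h c.down.1).coeff (c.down.2.1 + 1), funext fun i => Polynomial.ext fun n => ?_⟩
  rcases Nat.eq_zero_or_pos n with rfl | hn
  · rw [Polynomial.coeff_zero_eq_eval_zero, Polynomial.coeff_zero_eq_eval_zero, h0, eval_hx]
  · obtain ⟨n, rfl⟩ := Nat.exists_eq_succ_of_ne_zero hn.ne'
    by_cases hne : n < e
    · exact (coeff_hx e v (fun c => (h c.down.1).coeff (c.down.2.1 + 1)) i ⟨n, hne⟩).symm
    · rw [Polynomial.coeff_eq_zero_of_natDegree_lt, Polynomial.coeff_eq_zero_of_natDegree_lt]
      · exact lt_of_le_of_lt (natDegree_hx e v _ i) (by omega)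
      · exact lt_of_le_of_lt (hd i) (by omega)

/-- The equations of the space of tuples. -/
noncomputable def eqn (G : Fin m → MvPolynomial (Fin (N + 1)) R) (c : ULift.{u} (Fin m × ℕ)) :
    MvPolynomial (Co.{u} N e) R :=
  (eval₂Hom (Polynomial.C.comp C) (hu v e) (G c.down.1)).coeff c.down.2

/-- The coefficients of the minors. -/
noncomputable def mnr (i j : Fin (N + 1)) (a : Fin e) : MvPolynomial (Co.{u} N e) R :=
  X (ULift.up (i, a)) * C (v j) - X (ULift.up (j, a)) * C (v i)

theorem eval_eqn {T : Type u} [CommRing T] (φ : R →+* T) (x : Co.{u} N e → T)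
    (G : Fin m → MvPolynomial (Fin (N + 1)) R) (c : ULift.{u} (Fin m × ℕ)) :
    eval₂Hom φ x (eqn v e G c) =
      (aeval (hx e (fun j => φ (v j)) x) (map φ (G c.down.1)) : Polynomial T).coeff c.down.2 := by
  have h1 : (Polynomial.mapRingHom (eval₂Hom φ x)).comp (eval₂Hom (Polynomial.C.comp C) (hu v e)) =
      (aeval (hx e (fun j => φ (v j)) x) : MvPolynomial (Fin (N + 1)) T →ₐ[T] Polynomial T).toRingHom.comp (map φ) := by
    apply ringHom_ext
    · intro r
      simp
    · intro i
      rw [RingHom.comp_apply, eval₂Hom_X', map_hu]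
      simp
  have h2 := congrArg (fun q => (q (G c.down.1)).coeff c.down.2) h1
  simp only [RingHom.comp_apply, Polynomial.coe_mapRingHom, Polynomial.coeff_map] at h2
  exact h2

theorem eval_mnr {T : Type u} [CommRing T] (φ : R →+* T) (x : Co.{u} N e → T) (i j : Fin (N + 1)) (a : Fin e) :
    eval₂Hom φ x (mnr v e i j a) = x (ULift.up (i, a)) * φ (v j) - x (ULift.up (j, a)) * φ (v i) := by
  simp [mnr]

/-- Points of the space of tuples where all minors vanish. -/
theorem proportional_iff {T : Type u} [CommRing T] (v : Fin (N + 1) → T) (x : Co.{u} N e → T) (i j : Fin (N + 1)) :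
    hx e v x i * Polynomial.C (v j) = hx e v x j * Polynomial.C (v i) ↔
      ∀ a, x (ULift.up (i, a)) * v j - x (ULift.up (j, a)) * v i = 0 := by
  constructor
  · intro h a
    have h1 := congrArg (fun q => q.coeff (a.1 + 1)) h
    simp only [Polynomial.coeff_mul_C, coeff_hx] at h1
    rw [h1, sub_self]
  · intro h
    rw [hx, hx, add_mul, add_mul, Finset.sum_mul, Finset.sum_mul, ← Polynomial.C_mul, ← Polynomial.C_mul, mul_comm (v i)]
    congr 1
    refine Finset.sum_congr rfl fun a _ => ?_
    have h1 := sub_eq_zero.mp (h a)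
    rw [mul_right_comm, ← Polynomial.C_mul, mul_right_comm, ← Polynomial.C_mul, h1]

end Univ

section Main

variable {k : Type u} [Field k] [IsAlgClosed k] {S : Subalgebra ℤ k}

/-- **Nonexistence of tuples spreads out.** -/
theorem ev_not_tup (hS : S.FG) (v : Fin (N + 1) → S) (G : Fin m → MvPolynomial (Fin (N + 1)) S) (e : ℕ)
    (h : ¬ Tup (fun i => (v i : k)) (fun l => map S.val.toRingHom (G l)) e) :
    Ev S (OnField fun _ _ φ => ¬ Tup (fun i => φ (v i)) (fun l => map φ (G l)) e) := by
  classical
  let I : Ideal (MvPolynomial (Co.{u} N e) k) :=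
    Ideal.span (Set.range fun c => map S.val.toRingHom (eqn v e G c))
  have key : ∀ (i j : Fin (N + 1)) (a : Fin e), map S.val.toRingHom (mnr v e i j a) ∈ I.radical := by
    intro i j a
    rw [← vanishingIdeal_zeroLocus_eq_radical (K := k), mem_vanishingIdeal_iff]
    intro x hx'
    have hev : ∀ q : MvPolynomial (Co.{u} N e) S, aeval x (map S.val.toRingHom q) = eval₂Hom S.val.toRingHom x q := by
      intro q
      rw [aeval_def, coe_eval₂Hom, eval₂_map]
      rfl
    rw [hev, eval_mnr]
    by_contra hne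
    apply h
    refine ⟨hx e (fun i => (v i : k)) x, natDegree_hx e _ x, eval_hx e _ x, ⟨i, j, ?_⟩, fun l => ?_⟩
    · intro hp
      exact hne ((proportional_iff e _ x i j).mp hp a)
    · refine Polynomial.ext fun n => ?_
      rw [Polynomial.coeff_zero]
      have h1 := hx' (map S.val.toRingHom (eqn v e G (ULift.up (l, n)))) (Ideal.subset_span ⟨_, rfl⟩)
      rw [hev, eval_eqn] at h1
      exact h1
  have hstep : ∀ t : Fin (N + 1) × Fin (N + 1) × Fin e, Ev S (OnField fun κ _ φ =>
      ∀ x : Co.{u} N e → κ, (∀ c, eval₂Hom φ x (eqn v e G c) = 0) → eval₂Hom φ x (mnr v e t.1 t.2.1 t.2.2) = 0) := by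
    rintro ⟨i, j, a⟩
    obtain ⟨r, hr⟩ := key i j a
    rw [← map_pow] at hr
    obtain ⟨S', hle, hS', hm⟩ := exists_cert hS (fun c => eqn v e G c) (mnr v e i j a ^ r) hr
    refine Ev.of_le hle (Ev.of_forall hS' fun T _ φ κ _ ε x hx' => ?_)
    let ψ : S' →+* κ := (ε : T →+* κ).comp φ
    have hψ : ∀ q : MvPolynomial (Co.{u} N e) S,
        eval₂Hom ((ε : T →+* κ).comp (φ.comp (Subalgebra.inclusion hle).toRingHom)) x q =
          eval₂Hom ψ x (map (Subalgebra.inclusion hle).toRingHom q) := by
      intro q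
      rw [coe_eval₂Hom, coe_eval₂Hom, eval₂_map]
      rfl
    have h1 : Ideal.span (Set.range fun c => map (Subalgebra.inclusion hle).toRingHom (eqn v e G c)) ≤
        RingHom.ker (eval₂Hom ψ x) := by
      rw [Ideal.span_le]
      rintro _ ⟨c, rfl⟩
      have := hx' c
      rw [hψ] at this
      exact this
    have h2 : eval₂Hom ψ x (map (Subalgebra.inclusion hle).toRingHom (mnr v e i j a ^ r)) = 0 := h1 hm
    rw [map_pow, map_pow] at h2
    rw [hψ]
    exact eq_zero_of_pow_eq_zero h2
  refine (Ev.all_finite hS hstep).mono fun T _ φ hφ κ _ ε => ?_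
  rintro ⟨h', hd, h0, ⟨i, j, hij⟩, hG⟩
  obtain ⟨x, rfl⟩ := exists_hx e _ h' hd h0
  apply hij
  rw [proportional_iff]
  intro a
  have h1 := hφ (i, j, a) κ ε x fun c => by
    rw [eval_eqn]
    exact congrArg (fun q => q.coeff c.down.2) (hG c.down.1)
  rwa [eval_mnr] at h1

end Main

end K43.TupSpread
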